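import Cfsg.Agent.SolvableTransitive.Center
import Cfsg.Agent.SuzukiTwoGroup.Basic
import Cfsg.Agent.Solvable.Nilpotent

/-!
A 2-group with a solvable group of automorphisms transitive on the involutions, centre of exponent two:
the commutators and squares are central (after Higman).
-/

set_option autoImplicit false
set_option linter.unusedSectionVars false
set_option linter.style.haveILetI false
set_option maxHeartbeats 800000

namespace CfsgLib.SolvableTransitive

open scoped commutatorElement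
open CfsgLib.SuzukiTwoGroup (idempotent_scalar)

/-- A non-abelian 2-group with a solvable group of automorphisms transitive on its involutions. -/
structure Setting {P : Type*} [Group P] (K : Subgroup (MulAut P)) : Prop where
  finite : Finite P
  two : IsPGroup 2 P
  solv : Group.IsSolvable K
  trans : ∀ x y : P, x ≠ 1 → x * x = 1 → y ≠ 1 → y * y = 1 → ∃ k : K, (k : MulAut P) x = y
  exists_two : ∃ x y : P, x ≠ y ∧ x ≠ 1 ∧ x * x = 1 ∧ y ≠ 1 ∧ y * y = 1
  center_sq : ∀ z ∈ Subgroup.center P, z * z = 1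
  not_comm : ∃ x y : P, x * y ≠ y * x

namespace Setting

variable {P : Type*} [Group P] {K : Subgroup (MulAut P)} (hS : Setting K)
include hS

theorem mem_center {x : P} (hx : x * x = 1) : x ∈ Subgroup.center P :=
  haveI := hS.finite
  SuzukiTwoGroup.involution_mem_center K.subtype hS.trans hS.two hx

theorem act_center (k : K) {z : P} (hz : z ∈ Subgroup.center P) :
    (k : MulAut P) z ∈ Subgroup.center P :=
  Subgroup.characteristic_iff_map_le.1 inferInstance (k : MulAut P) ⟨z, hz, rfl⟩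

theorem four_le : 4 ≤ Nat.card (Additive (Subgroup.center P)) := by
  haveI := hS.finite
  obtain ⟨x, y, hxy, hx1, hx2, hy1, hy2⟩ := hS.exists_two
  have hyx : x * y ≠ 1 := fun h => hxy (by
    rw [← mul_one x, ← hy2, ← mul_assoc, h, one_mul])
  have hmul : x * y ∈ Subgroup.center P := mul_mem (hS.mem_center hx2) (hS.mem_center hy2)
  have hinj : Function.Injective (![1, ⟨x, hS.mem_center hx2⟩, ⟨y, hS.mem_center hy2⟩, ⟨x * y, hmul⟩] :
      Fin 4 → Subgroup.center P) := by
    intro i j hij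
    fin_cases i <;> fin_cases j <;> simp_all [Subtype.ext_iff, eq_comm]
  rw [Nat.card_congr (Additive.toMul (α := Subgroup.center P))]
  simpa using Nat.card_le_card_of_injective _ hinj

/-- An automorphism fixing no involution is of the form `x ↦ x⁻¹ k x` onto. -/
theorem exists_inv_mul_act {k : MulAut P} (hk : ∀ z : P, z ≠ 1 → z * z = 1 → k z ≠ z) (g : P) :
    ∃ x, g = x⁻¹ * k x := by
  haveI := hS.finite
  have hfpf : ∀ x, k x = x → x = 1 := by
    intro x hx
    by_contra hx1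
    obtain ⟨n, hn⟩ := IsPGroup.iff_orderOf.1 hS.two x
    obtain ⟨i, rfl⟩ : ∃ i, n = i + 1 := ⟨n - 1, by
      rcases n with _ | n
      · exact absurd (orderOf_eq_one_iff.1 (hn.trans (pow_zero 2))) hx1
      · omega⟩
    refine hk (x ^ 2 ^ i) ?_ ?_ (by rw [map_pow, hx])
    · rw [Ne, ← orderOf_dvd_iff_pow_eq_one, hn, Nat.pow_dvd_pow_iff_le_right (by norm_num)]
      omega
    · rw [← pow_add, ← two_mul, ← pow_succ', ← hn, pow_orderOf_eq_one]
  have hinj : Function.Injective (fun x : P => x⁻¹ * k x) := by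
    intro x y h
    have h1 : k (y * x⁻¹) = y * x⁻¹ := by
      rw [map_mul, map_inv]
      calc k y * (k x)⁻¹ = y * (y⁻¹ * k y) * (x⁻¹ * k x)⁻¹ * x⁻¹ := by group
        _ = y * x⁻¹ := by simp only at h; rw [h]; group
    exact (mul_inv_eq_one.1 (hfpf _ h1)).symm
  obtain ⟨x, hx⟩ := Finite.injective_iff_surjective.1 hinj g
  exact ⟨x, hx.symm⟩

/-- In a Suzuki 2-group commutators are central. -/
theorem commutator_mem_center : ∀ x y : P, ⁅x, y⁆ ∈ Subgroup.center P := by
  classical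
  haveI := hS.finite
  haveI : Finite (MulAut P) := Finite.of_injective _ DFunLike.coe_injective
  haveI := hS.solv
  haveI : Fact (Nat.Prime 2) := ⟨Nat.prime_two⟩
  by_contra hcon
  push Not at hcon
  obtain ⟨u₀, v₀, huv⟩ := hcon
  set Z := Subgroup.center P with hZ
  have hcm : ∀ {c : P}, c ∈ Z → ∀ g : P, c * g = g * c := fun hc g => (Subgroup.mem_center_iff.1 hc g).symm
  have hzi : ∀ {c : P}, c ∈ Z → c⁻¹ = c := fun hc => inv_eq_of_mul_eq_one_right (hS.center_sq _ hc)
  -- the subgroup `A`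
  set A : Subgroup P := (commutator P ⊔ Z) ⊓ (Subgroup.center (P ⧸ Z)).comap (QuotientGroup.mk' Z)
    with hA
  have hAcomm : ∀ a ∈ A, ∀ g : P, ⁅a, g⁆ ∈ Z := by
    intro a ha g
    rw [← QuotientGroup.eq_one_iff]
    show QuotientGroup.mk' Z ⁅a, g⁆ = 1
    rw [map_commutatorElement, commutatorElement_eq_one_iff_mul_comm]
    exact (Subgroup.mem_center_iff.1 (Subgroup.mem_inf.1 ha).2 _).symm
  have hcr : ∀ (g a : P), a ∈ A → ⁅g, a⁆ = ⁅a, g⁆ := by
    intro g a ha
    rw [← commutatorElement_inv, hzi (hAcomm a ha g)]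
  have hcomp : ∀ (k : K) (a : P), a ∈ A → (k : MulAut P) a ∈ A := by
    intro k a ha
    obtain ⟨ha1, ha2⟩ := Subgroup.mem_inf.1 ha
    refine Subgroup.mem_inf.2 ⟨?_, ?_⟩
    · have := Subgroup.mem_map_of_mem ((k : MulAut P) : P →* P) ha1
      have e1 : ∀ H : Subgroup P, H.Characteristic → H.map ((k : MulAut P) : P →* P) = H :=
        fun H h => Subgroup.characteristic_iff_map_eq.1 h (k : MulAut P)
      rw [Subgroup.map_sup, e1 _ inferInstance, e1 _ inferInstance] at this
      exact this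
    · rw [Subgroup.mem_comap, Subgroup.mem_center_iff]
      intro q
      obtain ⟨g, rfl⟩ := QuotientGroup.mk'_surjective Z q
      obtain ⟨g, rfl⟩ := (k : MulAut P).surjective g
      symm
      rw [← commutatorElement_eq_one_iff_mul_comm, ← map_commutatorElement]
      refine (QuotientGroup.eq_one_iff _).2 ?_
      rw [← map_commutatorElement (k : MulAut P)]
      exact hS.act_center k (hAcomm a ha g)
  -- `A` centralises `P'`
  have hAM : ∀ a ∈ A, ∀ m ∈ commutator P ⊔ Z, ⁅a, m⁆ = 1 := by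
    intro a ha m hm
    letI : CommGroup Z := { (inferInstance : Group Z) with
      mul_comm := fun x y => Subtype.ext (hcm x.2 y) }
    let f : P →* Z := MonoidHom.mk' (fun g => ⟨⁅a, g⁆, hAcomm a ha g⟩) fun g h => Subtype.ext (by
      show ⁅a, g * h⁆ = ⁅a, g⁆ * ⁅a, h⁆
      calc ⁅a, g * h⁆ = ⁅a, g⁆ * (g * ⁅a, h⁆ * g⁻¹) := by simp only [commutatorElement_def]; group
        _ = _ := by rw [← hcm (hAcomm a ha h) g, mul_inv_cancel_right])
    have h1 : commutator P ⊔ Z ≤ f.ker := sup_le (Abelianization.commutator_subset_ker f) fun c hc => by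
      rw [MonoidHom.mem_ker]
      exact Subtype.ext (commutatorElement_eq_one_iff_mul_comm.2 (hcm hc a).symm)
    exact congrArg Subtype.val (MonoidHom.mem_ker.1 (h1 hm))
  obtain ⟨a₀, ha₀, ha₀Z⟩ : ∃ a ∈ A, a ∉ Z := by
    haveI : Group.IsNilpotent (P ⧸ Z) := (hS.two.to_quotient Z).isNilpotent
    set N := (commutator P).map (QuotientGroup.mk' Z)
    haveI : N.Normal := Subgroup.Normal.map inferInstance _ (QuotientGroup.mk'_surjective Z)
    have hN : N ≠ ⊥ := fun h => huv ((QuotientGroup.eq_one_iff _).1 (by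
      have hmem : QuotientGroup.mk' Z ⁅u₀, v₀⁆ ∈ N := Subgroup.mem_map_of_mem _
        (Subgroup.commutator_mem_commutator (Subgroup.mem_top u₀) (Subgroup.mem_top v₀))
      rwa [h, Subgroup.mem_bot] at hmem))
    haveI : Nontrivial ↥(N ⊓ Subgroup.center (P ⧸ Z)) :=
      (Subgroup.nontrivial_iff_ne_bot _).2 (Solvable.inf_center_ne_bot hN)
    obtain ⟨⟨q, hq⟩, hq1⟩ := exists_ne (1 : ↥(N ⊓ Subgroup.center (P ⧸ Z)))
    obtain ⟨⟨b, hb, rfl⟩, hqc⟩ := Subgroup.mem_inf.1 hq
    exact ⟨b, Subgroup.mem_inf.2 ⟨Subgroup.mem_sup_left hb, hqc⟩,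
      fun h => hq1 (Subtype.ext ((QuotientGroup.eq_one_iff b).2 h))⟩
  have hA2 : ∀ a ∈ A, a * a ∈ Z := by
    intro a ha
    rw [Subgroup.mem_center_iff]
    intro g
    refine (commutatorElement_eq_one_iff_mul_comm.1 ?_).symm
    calc ⁅a * a, g⁆ = a * ⁅a, g⁆ * a⁻¹ * ⁅a, g⁆ := by simp only [commutatorElement_def]; group
      _ = 1 := by rw [← hcm (hAcomm a ha g) a, mul_inv_cancel_right, hS.center_sq _ (hAcomm a ha g)]
  -- its centralizer `M`
  set M : Subgroup P := Subgroup.centralizer (A : Set P) with hMdef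
  have hM : ∀ {m : P}, m ∈ M ↔ ∀ a ∈ A, ⁅a, m⁆ = 1 := by
    intro m
    rw [hMdef, Subgroup.mem_centralizer_iff]
    exact forall₂_congr fun a _ => commutatorElement_eq_one_iff_mul_comm.symm
  have hsupM : commutator P ⊔ Z ≤ M := fun m hm => hM.2 fun a ha => hAM a ha m hm
  have hAleM : A ≤ M := fun a ha => hsupM (Subgroup.mem_inf.1 ha).1
  have hcommM : ∀ g h : P, ⁅g, h⁆ ∈ M := fun g h => hsupM (Subgroup.mem_sup_left
    (Subgroup.commutator_mem_commutator (Subgroup.mem_top g) (Subgroup.mem_top h)))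
  have hMact : ∀ (k : K) (m : P), m ∈ M → (k : MulAut P) m ∈ M := by
    intro k m hm
    refine hM.2 fun a ha => ?_
    have h := hM.1 hm (((k⁻¹ : K) : MulAut P) a) (hcomp k⁻¹ a ha)
    have h2 := congrArg (k : MulAut P) h
    rw [map_commutatorElement, map_one, ← MulAut.mul_apply, ← Subgroup.coe_mul, mul_inv_cancel] at h2
    exact h2
  let actM : K →* MulAut M :=
    { toFun := fun k =>
        { toFun := fun m => ⟨(k : MulAut P) m, hMact k m m.2⟩
          invFun := fun m => ⟨((k⁻¹ : K) : MulAut P) m, hMact k⁻¹ m m.2⟩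
          left_inv := fun m => Subtype.ext (by simp)
          right_inv := fun m => Subtype.ext (by simp)
          map_mul' := fun m n => Subtype.ext (map_mul _ _ _) }
      map_one' := MulEquiv.ext fun m => Subtype.ext rfl
      map_mul' := fun k l => MulEquiv.ext fun m => Subtype.ext rfl }
  have ha₀sq : a₀ * a₀ ≠ 1 := fun h => ha₀Z (hS.mem_center h)
  have hMab' := mul_comm_of_center_exponent _ actM (fun x y hx1 hx2 hy1 hy2 => by
      obtain ⟨k, hk⟩ := hS.trans x y (fun h => hx1 (Subtype.ext h)) (congrArg Subtype.val hx2)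
        (fun h => hy1 (Subtype.ext h)) (congrArg Subtype.val hy2)
      exact ⟨k, Subtype.ext hk⟩) (hS.two.to_subgroup M) rfl
    ⟨⟨a₀, hAleM ha₀⟩, Subgroup.mem_center_iff.2 fun m => Subtype.ext (by
      show (m : P) * a₀ = a₀ * m
      exact (commutatorElement_eq_one_iff_mul_comm.1 (hM.1 m.2 a₀ ha₀)).symm),
      fun h => ha₀sq (congrArg Subtype.val h)⟩
  have hMab : ∀ {x y : P}, x ∈ M → y ∈ M → x * y = y * x := fun {x y} hx hy =>
    congrArg Subtype.val (hMab' ⟨x, hx⟩ ⟨y, hy⟩)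
  have hZM : Z ≤ M := le_sup_right.trans hsupM
  have hZA : Z ≤ A := fun c hc => Subgroup.mem_inf.2 ⟨Subgroup.mem_sup_right hc, by
    rw [Subgroup.mem_comap, show QuotientGroup.mk' Z c = 1 from (QuotientGroup.eq_one_iff c).2 hc]
    exact one_mem _⟩
  -- square roots in `A`
  have hroot : ∀ z : Z, ∃ a, a ∈ A ∧ a * a = (z : P) := by
    rintro ⟨z, hz⟩
    by_cases hz1 : z = 1
    · exact ⟨1, one_mem _, by simp [hz1]⟩
    obtain ⟨k, hk⟩ := hS.trans (a₀ * a₀) z ha₀sq
      (hS.center_sq _ (hA2 a₀ ha₀)) hz1 (hS.center_sq z hz)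
    exact ⟨(k : MulAut P) a₀, hcomp k a₀ ha₀, by rw [← map_mul]; exact hk⟩
  choose rt hrtA hrt using hroot
  have hMA : ∀ {x : P}, x ∈ M → x * x ∈ Z → x ∈ A := by
    intro x hx hx2
    obtain ⟨r, hr, hrA⟩ : ∃ r, r * r = x * x ∧ r ∈ A := ⟨_, hrt ⟨x * x, hx2⟩, hrtA _⟩
    have h1 : x * r⁻¹ * (x * r⁻¹) = 1 := by
      calc x * r⁻¹ * (x * r⁻¹) = x * (r⁻¹ * x) * r⁻¹ := by group
        _ = x * x * (r * r)⁻¹ := by rw [hMab (inv_mem (hAleM hrA)) hx]; group
        _ = 1 := by rw [hr, mul_inv_cancel]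
    have := mul_mem (hZA (hS.mem_center h1)) hrA
    rwa [inv_mul_cancel_right] at this
  have hgA : ∀ (g : P) (a b : P), a ∈ A → b ∈ A → ⁅g, a * b⁆ = ⁅g, a⁆ * ⁅g, b⁆ := by
    intro g a b ha hb
    calc ⁅g, a * b⁆ = ⁅g, a⁆ * (a * ⁅g, b⁆ * a⁻¹) := by simp only [commutatorElement_def]; group
      _ = _ := by
        rw [hcr g b hb, ← hcm (hAcomm b hb g) a, mul_inv_cancel_right]
  have hwd : ∀ (g a : P) (ha : a ∈ A), ⁅g, a⁆ = ⁅g, rt ⟨a * a, hA2 a ha⟩⁆ := by
    intro g a ha
    obtain ⟨r, hr⟩ : ∃ r, r = rt ⟨a * a, hA2 a ha⟩ := ⟨_, rfl⟩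
    have hrA : r ∈ A := hr ▸ hrtA _
    have hr2 : r * r = a * a := by rw [hr]; exact hrt _
    rw [← hr]
    have h1 : a * r⁻¹ * (a * r⁻¹) = 1 := by
      calc a * r⁻¹ * (a * r⁻¹) = a * (r⁻¹ * a) * r⁻¹ := by group
        _ = a * a * (r * r)⁻¹ := by rw [hMab (inv_mem (hAleM hrA)) (hAleM ha)]; group
        _ = 1 := by rw [hr2, mul_inv_cancel]
    have hc := hS.mem_center h1
    calc ⁅g, a⁆ = ⁅g, a * r⁻¹ * r⁆ := by rw [inv_mul_cancel_right]
      _ = ⁅g, a * r⁻¹⁆ * ⁅g, r⁆ := hgA g _ _ (hZA hc) hrA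
      _ = _ := by rw [commutatorElement_eq_one_iff_mul_comm.2 (hcm hc g).symm, one_mul]
  -- the maps `E g` on `Z`
  letI : CommGroup Z := { (inferInstance : Group Z) with
    mul_comm := fun x y => Subtype.ext (hcm x.2 y) }
  have h2V : ∀ v : Additive Z, v + v = 0 := fun v =>
    Additive.toMul.injective (Subtype.ext (hS.center_sq _ v.toMul.2))
  let E₀ : P → AddMonoid.End (Additive Z) := fun g =>
    AddMonoidHom.mk' (fun v => Additive.ofMul ⟨⁅g, rt v.toMul⁆, by
      rw [hcr g _ (hrtA _)]; exact hAcomm _ (hrtA _) g⟩) fun v w => by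
        apply Additive.toMul.injective
        apply Subtype.ext
        show ⁅g, rt (v + w).toMul⁆ = ⁅g, rt v.toMul⁆ * ⁅g, rt w.toMul⁆
        rw [← hgA g _ _ (hrtA _) (hrtA _), hwd g _ (mul_mem (hrtA v.toMul) (hrtA w.toMul))]
        congr 2
        apply Subtype.ext
        show ((v + w).toMul : P) = rt v.toMul * rt w.toMul * (rt v.toMul * rt w.toMul)
        rw [toMul_add, Subgroup.coe_mul, ← hrt v.toMul, ← hrt w.toMul]
        calc rt v.toMul * rt v.toMul * (rt w.toMul * rt w.toMul)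
            = rt v.toMul * (rt v.toMul * rt w.toMul) * rt w.toMul := by group
          _ = rt v.toMul * (rt w.toMul * rt v.toMul) * rt w.toMul := by
              rw [hMab (hAleM (hrtA v.toMul)) (hAleM (hrtA w.toMul))]
          _ = _ := by group
  have hE : ∀ (g a : P) (ha : a ∈ A),
      ((E₀ g (Additive.ofMul ⟨a * a, hA2 a ha⟩)).toMul : P) = ⁅g, a⁆ := fun g a ha => (hwd g a ha).symm
  have hEmul : ∀ g h v, E₀ (g * h) v = E₀ g v + E₀ h v := by
    intro g h v
    apply Additive.toMul.injective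
    apply Subtype.ext
    show ⁅g * h, rt v.toMul⁆ = ⁅g, rt v.toMul⁆ * ⁅h, rt v.toMul⁆
    have hc : ⁅h, rt v.toMul⁆ ∈ Z := by rw [hcr h _ (hrtA _)]; exact hAcomm _ (hrtA _) h
    calc ⁅g * h, rt v.toMul⁆ = g * ⁅h, rt v.toMul⁆ * g⁻¹ * ⁅g, rt v.toMul⁆ := by
          simp only [commutatorElement_def]; group
      _ = _ := by rw [← hcm hc g, mul_inv_cancel_right, hcm hc]
  let ρ₀ : K →* AddMonoid.End (Additive Z) :=
    { toFun := fun k => MonoidHom.toAdditive
        (((k : MulAut P).toMonoidHom.comp Z.subtype).codRestrict Z fun z => hS.act_center k z.2)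
      map_one' := by ext u; simp; rfl
      map_mul' := fun k l => by ext u; simp; rfl }
  have hρ : ∀ k v, ((ρ₀ k v).toMul : P) = (k : MulAut P) (v.toMul : P) := fun k v => rfl
  have htr : ∀ v w : Additive Z, v ≠ 0 → w ≠ 0 → ∃ k, ρ₀ k v = w := fun v w hv hw => by
    obtain ⟨k, hk⟩ := hS.trans v.toMul w.toMul
      (fun h => hv (Additive.toMul.injective (Subtype.ext h))) (hS.center_sq _ v.toMul.2)
      (fun h => hw (Additive.toMul.injective (Subtype.ext h))) (hS.center_sq _ w.toMul.2)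
    exact ⟨k, Additive.toMul.injective (Subtype.ext hk)⟩
  have hEeq : ∀ (k : K) g v, E₀ ((k : MulAut P) g) (ρ₀ k v) = ρ₀ k (E₀ g v) := by
    intro k g v
    apply Additive.toMul.injective
    apply Subtype.ext
    rw [hρ]
    show ⁅(k : MulAut P) g, rt (ρ₀ k v).toMul⁆ = (k : MulAut P) ⁅g, rt v.toMul⁆
    rw [map_commutatorElement, hwd ((k : MulAut P) g) _ (hcomp k _ (hrtA v.toMul))]
    congr 2
    apply Subtype.ext
    show (k : MulAut P) (v.toMul : P) = (k : MulAut P) (rt v.toMul) * (k : MulAut P) (rt v.toMul)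
    rw [← map_mul, hrt]
  have hEM : ∀ {g : P}, (∀ v, E₀ g v = 0) → g ∈ M := by
    intro g hg
    refine hM.2 fun a ha => ?_
    rw [← hcr g a ha, ← hE g a ha, hg]
    rfl
  obtain ⟨g₁, hg₁⟩ : ∃ g, g ∉ M := by
    by_contra h
    push Not at h
    exact ha₀Z (Subgroup.mem_center_iff.2 fun g =>
      (commutatorElement_eq_one_iff_mul_comm.1 (hM.1 (h g) a₀ ha₀)).symm)
  have hsqM : ∀ g : P, g * g ∈ M := by
    intro g
    refine hM.2 fun a ha => ?_
    calc ⁅a, g * g⁆ = ⁅a, g⁆ * (g * ⁅a, g⁆ * g⁻¹) := by simp only [commutatorElement_def]; group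
      _ = 1 := by rw [← hcm (hAcomm a ha g) g, mul_inv_cancel_right, hS.center_sq _ (hAcomm a ha g)]
  obtain ⟨F, hFld, hFin, hChar, Φ, y₀, b, hb, hb1, hΦ₁⟩ := exists_scalar h2V hS.four_le ρ₀ htr
  have hΦ : ∀ (j : ℕ) x, ρ₀ (y₀ ^ j) (Φ x) = Φ (b ^ j * x) := by
    intro j
    induction j with
    | zero => intro x; rw [pow_zero, map_one, pow_zero, one_mul]; rfl
    | succ j ih =>
      intro x
      rw [pow_succ', map_mul]
      show ρ₀ y₀ (ρ₀ (y₀ ^ j) (Φ x)) = _
      rw [ih, hΦ₁, pow_succ', mul_assoc]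
  have hfix : ∀ j : ℕ, b ^ j ≠ 1 → ∀ g : P, ∃ x, g = x⁻¹ * ((y₀ ^ j : K) : MulAut P) x := by
    intro j hj
    refine hS.exists_inv_mul_act fun z hz1 hz2 hz => hj ?_
    set v : Additive Z := Additive.ofMul ⟨z, hS.mem_center hz2⟩ with hv
    have h1 : ρ₀ (y₀ ^ j) v = v := Additive.toMul.injective (Subtype.ext hz)
    obtain ⟨t, ht⟩ := Φ.surjective v
    rw [← ht, hΦ, Φ.injective.eq_iff] at h1
    exact (mul_eq_right₀ fun h0 => hz1 (by
      rw [h0, map_zero] at ht
      exact congrArg (fun w => (w.toMul : P)) ht.symm)).1 h1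
  by_cases hexp : ∃ y ∈ M, y * y * (y * y) ≠ 1
  · -- exponent at least eight: the `E g` are idempotents
    obtain ⟨y, hy, hy4⟩ := hexp
    obtain ⟨j, hj⟩ := IsPGroup.iff_orderOf.1 hS.two y
    obtain ⟨i, rfl⟩ : ∃ i, j = i + 3 := by
      refine ⟨j - 3, ?_⟩
      by_contra hlt
      apply hy4
      rw [← pow_two, ← pow_two, ← pow_mul]
      refine orderOf_dvd_iff_pow_eq_one.1 ?_
      rw [hj, show 2 * 2 = 2 ^ 2 from rfl]
      exact pow_dvd_pow 2 (by omega)
    set b := y ^ 2 ^ i with hb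
    have hbM : b ∈ M := pow_mem hy _
    have hb8 : b * b * (b * b) * (b * b * (b * b)) = 1 := by
      rw [← pow_two, ← pow_two, ← pow_two, hb, ← pow_mul, ← pow_mul, ← pow_mul,
        show 2 ^ i * (2 * (2 * 2)) = 2 ^ (i + 3) by ring, ← hj, pow_orderOf_eq_one]
    have hb4 : b * b * (b * b) ≠ 1 := by
      rw [← pow_two, ← pow_two, hb, ← pow_mul, ← pow_mul, show 2 ^ i * (2 * 2) = 2 ^ (i + 2) by ring,
        Ne, ← orderOf_dvd_iff_pow_eq_one, hj, Nat.pow_dvd_pow_iff_le_right (by norm_num)]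
      omega
    have hxroot : ∀ a ∈ A, ∃ x ∈ M, x * x = a := by
      intro a ha
      by_cases ha2 : a * a = 1
      · exact ⟨rt ⟨a, hS.mem_center ha2⟩, hAleM (hrtA _), hrt _⟩
      obtain ⟨k, hk⟩ := hS.trans _ (a * a) hb4 hb8 ha2 (hS.center_sq _ (hA2 a ha))
      set b' := (k : MulAut P) b
      have hb' : b' ∈ M := hMact k b hbM
      have hc : a * (b' * b')⁻¹ * (a * (b' * b')⁻¹) = 1 := by
        calc a * (b' * b')⁻¹ * (a * (b' * b')⁻¹) = a * ((b' * b')⁻¹ * a) * (b' * b')⁻¹ := by group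
          _ = a * a * (b' * b' * (b' * b'))⁻¹ := by
              rw [hMab (inv_mem (mul_mem hb' hb')) (hAleM ha)]; group
          _ = 1 := by rw [← hk, map_mul, map_mul, mul_inv_cancel]
      obtain ⟨r, hr, hrA⟩ : ∃ r, r * r = a * (b' * b')⁻¹ ∧ r ∈ A :=
        ⟨_, hrt ⟨_, hS.mem_center hc⟩, hrtA _⟩
      refine ⟨r * b', mul_mem (hAleM hrA) hb', ?_⟩
      calc r * b' * (r * b') = r * (b' * r) * b' := by group
        _ = r * r * (b' * b') := by rw [hMab hb' (hAleM hrA)]; group
        _ = a := by rw [hr, inv_mul_cancel_right]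
    have hid : ∀ g v, E₀ g (E₀ g v) = E₀ g v := by
      intro g v
      obtain ⟨x, hx, hxa⟩ := hxroot (rt v.toMul) (hrtA _)
      set d := ⁅g, x⁆ with hd
      have hdM : d ∈ M := hcommM g x
      have hconj : g * x * g⁻¹ = d * x := by rw [hd, commutatorElement_def]; group
      have hd2 : d * d = ⁅g, rt v.toMul⁆ := by
        rw [← hxa]
        calc d * d = d * (d * x) * x⁻¹ := by group
          _ = (d * x) * d * x⁻¹ := by rw [hMab hdM (mul_mem hdM hx)]
          _ = (g * x * g⁻¹) * (g * x * g⁻¹ * x⁻¹) * x⁻¹ := by rw [hconj]; group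
          _ = _ := by rw [commutatorElement_def]; group
      have hdZ : d * d ∈ Z := by rw [hd2, hcr g _ (hrtA _)]; exact hAcomm _ (hrtA _) g
      have hdA := hMA hdM hdZ
      have hgd : g * d * g⁻¹ = d⁻¹ := by
        have h1 : g * d * g⁻¹ * (d * x) = x := by
          calc g * d * g⁻¹ * (d * x) = g * d * g⁻¹ * (g * x * g⁻¹) := by rw [hconj]
            _ = g * (d * x) * g⁻¹ := by group
            _ = (g * g) * x * (g * g)⁻¹ := by rw [← hconj]; group
            _ = x := by rw [hMab (hsqM g) hx, mul_inv_cancel_right]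
        rw [eq_inv_iff_mul_eq_one, ← mul_left_inj x, one_mul, mul_assoc]
        exact h1
      have h2 : E₀ g v = Additive.ofMul ⟨d * d, hdZ⟩ :=
        Additive.toMul.injective (Subtype.ext hd2.symm)
      rw [h2]
      apply Additive.toMul.injective
      apply Subtype.ext
      rw [hE g d hdA]
      show ⁅g, d⁆ = d * d
      calc ⁅g, d⁆ = (g * d * g⁻¹) * d⁻¹ := commutatorElement_def g d
        _ = (d * d)⁻¹ := by rw [hgd, mul_inv_rev]
        _ = d * d := hzi hdZ
    haveI : Finite P := hS.finite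
    have hdich := idempotent_scalar h2V ρ₀ (fun k g => (k : MulAut P) g) htr E₀ hid
      (fun g h => ⟨g * h, hEmul g h⟩) hEeq (fun k => (k : MulAut P).surjective)
    obtain ⟨k, hk⟩ : ∃ k : K, ∀ g, ∃ x, g = x⁻¹ * (k : MulAut P) x :=
      ⟨y₀ ^ 1, hfix 1 (by rwa [pow_one])⟩
    obtain ⟨x, hx⟩ := hk g₁
    refine hg₁ (hEM fun v => ?_)
    have hinv : E₀ x⁻¹ v = E₀ x v := by
      have h1 : E₀ (x⁻¹ * x) v = 0 := by
        have := hEmul 1 1 v
        rw [one_mul] at this
        rw [inv_mul_cancel, this, h2V]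
      rw [hEmul] at h1
      calc E₀ x⁻¹ v = E₀ x⁻¹ v + (E₀ x v + E₀ x v) := by rw [h2V, add_zero]
        _ = _ := by rw [← add_assoc, h1, zero_add]
    rw [hx, hEmul, hinv]
    obtain ⟨w, rfl⟩ : ∃ w, ρ₀ k w = v :=
      ⟨ρ₀ k⁻¹ v, by
        show (ρ₀ k * ρ₀ k⁻¹) v = v
        rw [← map_mul, mul_inv_cancel, map_one]; rfl⟩
    rw [hEeq]
    rcases hdich x with h | h
    · rw [h, h, map_zero, add_zero]
    · rw [h, h, h2V]
  -- exponent four
  push Not at hexp
  have hMA' : ∀ {m : P}, m ∈ M → m ∈ A := fun hm => hMA hm (hS.mem_center (hexp _ hm))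
  let C₀ : P → P → Additive Z := fun g h => Additive.ofMul ⟨⁅g, h⁆ * ⁅g, h⁆, hA2 _ (hMA' (hcommM g h))⟩
  have hCval : ∀ g h, ((C₀ g h).toMul : P) = ⁅g, h⁆ * ⁅g, h⁆ := fun g h => rfl
  have hCsymm : ∀ g h, C₀ g h = C₀ h g := by
    intro g h
    apply Additive.toMul.injective
    apply Subtype.ext
    rw [hCval, hCval, ← commutatorElement_inv h g, ← mul_inv_rev, hzi (hA2 _ (hMA' (hcommM h g)))]
  have hCmul : ∀ g h f, C₀ (g * h) f = C₀ g f + C₀ h f := by
    intro g h f
    apply Additive.toMul.injective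
    apply Subtype.ext
    rw [toMul_add, Subgroup.coe_mul, hCval, hCval, hCval]
    have hm : g * ⁅h, f⁆ * g⁻¹ ∈ M := by
      rw [show g * ⁅h, f⁆ * g⁻¹ = ⁅g, ⁅h, f⁆⁆ * ⁅h, f⁆ by simp only [commutatorElement_def]; group]
      exact mul_mem (hcommM _ _) (hcommM h f)
    have hzc := hcm (hA2 _ (hMA' (hcommM h f))) g
    have hzc' := hcm (hA2 _ (hMA' (hcommM h f))) (⁅g, f⁆ * ⁅g, f⁆)
    calc ⁅g * h, f⁆ * ⁅g * h, f⁆
        = (g * ⁅h, f⁆ * g⁻¹ * ⁅g, f⁆) * (g * ⁅h, f⁆ * g⁻¹ * ⁅g, f⁆) := by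
          simp only [commutatorElement_def]; group
      _ = (g * ⁅h, f⁆ * g⁻¹) * (⁅g, f⁆ * (g * ⁅h, f⁆ * g⁻¹)) * ⁅g, f⁆ := by group
      _ = g * (⁅h, f⁆ * ⁅h, f⁆) * g⁻¹ * (⁅g, f⁆ * ⁅g, f⁆) := by
          rw [hMab (hcommM g f) hm]; group
      _ = _ := by rw [← hzc, mul_inv_cancel_right, hzc']
  let Q₀ : P → Additive Z := fun g => Additive.ofMul ⟨g * g * (g * g), hA2 _ (hMA' (hsqM g))⟩
  have hiden : ∀ g h, E₀ h (Q₀ g) = E₀ g (C₀ g h) + C₀ g h := by
    intro g h
    apply Additive.toMul.injective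
    apply Subtype.ext
    rw [toMul_add, Subgroup.coe_mul, hE h _ (hMA' (hsqM g)), hCval]
    erw [hE g _ (hMA' (hcommM g h))]
    rw [hcr h _ (hMA' (hsqM g))]
    simp only [commutatorElement_def]
    group
  have hCker : ∀ {g : P}, (∀ v, E₀ g v = 0) → ∀ h, C₀ g h = 0 := by
    intro g hg h
    apply Additive.toMul.injective
    apply Subtype.ext
    rw [hCval]
    exact hS.center_sq _ (hAcomm g (hMA' (hEM hg)) h)
  -- coordinates
  haveI := FieldMaps.finite_ringAut (F := F)
  haveI : Fintype (F ≃+* F) := Fintype.ofFinite _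
  have h2F : ∀ x : F, x + x = 0 := CharTwo.add_self_eq_zero
  have hb0 := hb.ne
  let comb := AddEquiv.ofBijective (FieldMaps.combine : ((F ≃+* F) → F) →+ (F →+ F))
    FieldMaps.combine_bijective
  let e : P → (F →+ F) := fun g => Φ.symm.toAddMonoidHom.comp ((E₀ g).comp Φ.toAddMonoidHom)
  let c : P → (F ≃+* F) → F := fun g => comb.symm (e g)
  have hcomb : ∀ g, FieldMaps.combine (c g) = e g := fun g => comb.apply_symm_apply _
  have hcapp : ∀ g x, Φ.symm (E₀ g (Φ x)) = ∑ σ, c g σ * σ x := fun g x => by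
    rw [← FieldMaps.combine_apply, hcomb]; rfl
  have hcmul : ∀ g h, c (g * h) = c g + c h := fun g h => by
    show comb.symm _ = comb.symm _ + comb.symm _
    rw [← map_add]
    congr 1
    ext x
    show Φ.symm (E₀ (g * h) (Φ x)) = Φ.symm (E₀ g (Φ x)) + Φ.symm (E₀ h (Φ x))
    rw [hEmul, map_add]
  have hcE : ∀ {g}, c g = 0 → ∀ v, E₀ g v = 0 := by
    intro g hg v
    have := hcapp g (Φ.symm v)
    simp only [hg, Φ.apply_symm_apply, Pi.zero_apply, zero_mul, Finset.sum_const_zero] at this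
    exact Φ.symm.injective (this.trans (map_zero _).symm)
  have hc1 : c 1 = 0 := by
    have := hcmul 1 1
    rwa [one_mul, left_eq_add] at this
  have hcinv : ∀ g, c g⁻¹ = c g := by
    intro g
    funext σ
    have := congrFun (hcmul g⁻¹ g) σ
    rw [inv_mul_cancel, hc1, Pi.zero_apply, Pi.add_apply] at this
    exact CharTwo.add_eq_zero.1 this.symm
  have hCc : ∀ {g g'}, c g = c g' → ∀ h, C₀ g h = C₀ g' h := by
    intro g g' hgg h
    have h0 : c (g * g'⁻¹) = 0 := by rw [hcmul, hcinv, hgg]; funext σ; exact h2F _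
    have := hCmul (g * g'⁻¹) g' h
    rwa [inv_mul_cancel_right, hCker (hcE h0), zero_add] at this
  have hceq : ∀ (j : ℕ) g σ,
      c (((y₀ ^ j : K) : MulAut P) g) σ = (b / σ b) ^ j * c g σ := by
    intro j g σ
    set g' := ((y₀ ^ j : K) : MulAut P) g with hg'
    have h1 : ∀ x, (FieldMaps.combine fun τ => c g' τ * τ (b ^ j)) x =
        (FieldMaps.combine fun τ => b ^ j * c g τ) x := by
      intro x
      rw [FieldMaps.combine_apply, FieldMaps.combine_apply]
      calc ∑ τ, c g' τ * τ (b ^ j) * τ x = ∑ τ, c g' τ * τ (b ^ j * x) := by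
            simp only [map_mul, mul_assoc]
        _ = Φ.symm (E₀ g' (Φ (b ^ j * x))) := (hcapp _ _).symm
        _ = b ^ j * Φ.symm (E₀ g (Φ x)) := by
            rw [← hΦ, hg', hEeq, Φ.symm_apply_eq, ← hΦ, Φ.apply_symm_apply]
        _ = _ := by rw [hcapp, Finset.mul_sum]; simp only [mul_assoc]
    have h2 := congrFun (FieldMaps.combine_bijective.1 (AddMonoidHom.ext h1)) σ
    rw [div_pow, ← map_pow σ, div_mul_eq_mul_div, eq_div_iff (by simpa using pow_ne_zero _ hb0), h2]
  have hgen : ∀ σ, (∃ g, c g σ ≠ 0) → Gen b σ := by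
    rintro σ ⟨g, hg⟩ j hj
    by_contra hne
    obtain ⟨x, rfl⟩ := hfix j hne g
    exact hg (by rw [hcmul, Pi.add_apply, hcinv, hceq, hj, one_mul, h2F])
  have hJrefl : ∀ g, c g (RingEquiv.refl F) = 0 := by
    intro g
    by_contra hg
    have := hgen _ ⟨g, hg⟩ 1 (by rw [RingEquiv.refl_apply, div_self hb0, one_pow])
    rw [pow_one] at this
    exact hb1 this
  -- every admissible coordinate vector occurs
  have hsingle : ∀ σ, (∃ g, c g σ ≠ 0) → ∀ t : F, ∃ g, c g = Pi.single σ t := by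
    rintro σ ⟨gσ, hgσ⟩ t
    by_contra hno
    push Not at hno
    letI : Algebra (ZMod 2) F := ZMod.algebra F 2
    let W : AddSubgroup ((F ≃+* F) → F) :=
      { carrier := Set.range c
        zero_mem' := ⟨1, hc1⟩
        add_mem' := by rintro _ _ ⟨g, rfl⟩ ⟨h, rfl⟩; exact ⟨g * h, hcmul g h⟩
        neg_mem' := by rintro _ ⟨g, rfl⟩; exact ⟨g, funext fun τ => (CharTwo.neg_eq _).symm⟩ }
    have hnot : Pi.single σ t ∉ W.toZModSubmodule 2 := fun h => by
      obtain ⟨g, hg⟩ := h
      exact hno g hg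
    obtain ⟨φ, hφt, hφW⟩ := Submodule.exists_dual_map_eq_bot_of_notMem hnot inferInstance
    let f : (F ≃+* F) → F →+ F := fun τ => ((ZMod.castHom (dvd_refl 2) F).toAddMonoidHom.comp
      φ.toAddMonoidHom).comp (AddMonoidHom.single (fun _ : F ≃+* F => F) τ)
    let d : (F ≃+* F) → (F ≃+* F) → F := fun τ => comb.symm (f τ)
    have hd : ∀ τ x, ∑ π, d τ π * π x = f τ x := fun τ x => by
      rw [← FieldMaps.combine_apply]; exact DFunLike.congr_fun (comb.apply_symm_apply _) x
    have hsum : ∀ g, ∑ τ, f τ (c g τ) = 0 := by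
      intro g
      have h0 : φ (c g) = 0 := by
        rw [← Submodule.mem_bot (ZMod 2), ← hφW]
        exact Submodule.mem_map_of_mem ⟨g, rfl⟩
      have := congrArg (ZMod.castHom (dvd_refl 2) F) h0
      rw [map_zero, ← Finset.univ_sum_single (c g), map_sum, map_sum] at this
      exact this
    have hkey : ∀ π, d σ π = 0 := by
      intro π
      have h := coeff_eq_zero (Finset.univ : Finset ((F ≃+* F) × (F ≃+* F)))
        (fun p => p.2 (b / p.1 b)) (fun p => d p.1 p.2 * p.2 (c gσ p.1)) ?_ (π (b / σ b))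
      · rw [Finset.sum_eq_single (σ, π) (fun p hp hne => ?_) (fun h' => absurd (by simp) h')] at h
        · exact (mul_eq_zero.1 h).resolve_right (by simpa using hgσ)
        · rw [Finset.mem_filter] at hp
          by_cases hp0 : c gσ p.1 = 0
          · rw [hp0, map_zero, mul_zero]
          · obtain ⟨h1, h2⟩ := hb.four p.2 π p.1 σ (fun h' => hp0 (by rw [h']; exact hJrefl gσ))
              (fun h' => hgσ (by rw [h']; exact hJrefl gσ)) (hgen _ ⟨gσ, hp0⟩) (hgen _ ⟨gσ, hgσ⟩) hp.2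
            exact absurd (Prod.ext h2 h1) hne
      · intro j
        have := hsum (((y₀ ^ j : K) : MulAut P) gσ)
        simp only [← hd, hceq, map_mul, map_pow] at this
        rw [Fintype.sum_prod_type]
        calc _ = ∑ τ, ∑ π, d τ π * (π (b / τ b) ^ j * π (c gσ τ)) :=
            Finset.sum_congr rfl fun τ _ => Finset.sum_congr rfl fun π _ => by ring
          _ = 0 := this
    have hf0 : f σ t = 0 := by rw [← hd]; simp [hkey]
    refine hφt ((ZMod.castHom (dvd_refl 2) F).injective ?_)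
    rw [map_zero]
    exact hf0
  -- the automorphism inverse to squaring
  set fr := frobeniusEquiv F 2 with hfr
  have hfr2 : ∀ x, fr x = x * x := fun x => by rw [hfr, frobeniusEquiv_def, pow_two]
  set σ₀ := fr.symm with hσ₀
  have hσ₀2 : ∀ x, σ₀ (x * x) = x := fun x => by rw [← hfr2, hσ₀, RingEquiv.symm_apply_apply]
  have hone : ∀ σ, σ ≠ σ₀ → ∀ g, (∀ τ, τ ≠ σ → c g τ = 0) → ∀ h, C₀ g h = 0 := by
    intro σ hσ g hg h
    by_cases hJ : ∀ g', c g' σ = 0
    · refine hCker (hcE (funext fun τ => ?_)) h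
      by_cases hτ : τ = σ
      · rw [hτ, hJ, Pi.zero_apply]
      · rw [hg τ hτ, Pi.zero_apply]
    push Not at hJ
    have hσr : σ ≠ RingEquiv.refl F := fun h' => hJ.elim fun g' hg' => hg' (h' ▸ hJrefl g')
    have hnσ : ¬ ∀ x, σ (x * x) = x := fun h' => hσ (RingEquiv.ext fun y => by
      obtain ⟨x, rfl⟩ := fr.surjective y
      rw [hσ₀, RingEquiv.symm_apply_apply, hfr2]
      exact h' x)
    choose G hG using hsingle σ hJ
    let A₁ : F →+ F := AddMonoidHom.mk' (fun t => Φ.symm (C₀ (G t) h)) fun t t' => by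
      rw [← map_add, ← hCmul]
      refine congrArg _ (hCc ?_ h)
      rw [hG, hcmul, hG, hG, Pi.single_add]
    let d : (F ≃+* F) → F := comb.symm A₁
    have hd : ∀ x, ∑ π, d π * π x = A₁ x := fun x => by
      rw [← FieldMaps.combine_apply]; exact DFunLike.congr_fun (comb.apply_symm_apply _) x
    let qq := Φ.symm (Q₀ (G 1))
    set η := b / σ b with hη
    have hg' := hgen σ hJ
    have heqn : ∀ j : ℕ, (∑ π, d π * π η ^ j) + (∑ π, σ (d π) * (η * σ (π η)) ^ j) +
        ∑ τ, c h τ * τ qq * τ b ^ j = 0 := by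
      intro j
      set g' := ((y₀ ^ j : K) : MulAut P) (G 1) with hg'
      have hcg' : c g' = Pi.single σ (η ^ j) := by
        funext τ
        rw [hg', hceq, hG]
        by_cases hτ : τ = σ
        · subst hτ; simp [hη]
        · simp [hτ]
      have h1 : Φ.symm (C₀ g' h) = ∑ π, d π * π (η ^ j) := by
        rw [hd]
        show _ = Φ.symm (C₀ (G (η ^ j)) h)
        rw [hCc (hcg'.trans (hG _).symm) h]
      have h2 : Q₀ g' = Φ (b ^ j * qq) := by
        rw [← hΦ, Φ.apply_symm_apply]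
        apply Additive.toMul.injective
        apply Subtype.ext
        rw [hρ]
        show g' * g' * (g' * g') = ((y₀ ^ j : K) : MulAut P) (G 1 * G 1 * (G 1 * G 1))
        simp only [map_mul, hg']
      have hcol : ∀ y : F, ∑ τ, c g' τ * τ y = η ^ j * σ y := fun y => by
        simp [hcg', Pi.single_apply]
      have h3 := congrArg Φ.symm (hiden g' h)
      rw [h2, hcapp, map_add, show C₀ g' h = Φ (Φ.symm (C₀ g' h)) from (Φ.apply_symm_apply _).symm,
        hcapp, Φ.symm_apply_apply, hcol, h1] at h3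
      simp only [map_sum, Finset.mul_sum, map_mul, map_pow] at h3
      have hrhs : ∑ τ, c h τ * τ qq * τ b ^ j = ∑ τ, c h τ * (τ b ^ j * τ qq) :=
        Finset.sum_congr rfl fun τ _ => by ring
      have hmid : ∑ π, σ (d π) * (η * σ (π η)) ^ j = ∑ π, η ^ j * (σ (d π) * σ (π η) ^ j) :=
        Finset.sum_congr rfl fun π _ => by ring
      rw [hrhs, hmid, h3, add_comm (∑ π, η ^ j * _)]
      exact h2F _
    let mI : (F ≃+* F) ⊕ (F ≃+* F) ⊕ (F ≃+* F) → F := fun i => Sum.elim
      (fun π : F ≃+* F => π η) (Sum.elim (fun π : F ≃+* F => η * σ (π η)) fun τ : F ≃+* F => τ b) i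
    let cI : (F ≃+* F) ⊕ (F ≃+* F) ⊕ (F ≃+* F) → F := fun i => Sum.elim d
      (Sum.elim (fun π => σ (d π)) fun τ => c h τ * τ qq) i
    have hall : ∀ j : ℕ, ∑ i, cI i * mI i ^ j = 0 := by
      intro j
      rw [Fintype.sum_sum_type, Fintype.sum_sum_type, ← add_assoc]
      exact heqn j
    obtain ⟨u, hu⟩ := hg'.exists_pow hb0
    -- the three ways in which two bases can agree
    have hLL : ∀ π π' : F ≃+* F, π η = π' η → π = π' := fun π π' hh => hb.two π π' (by
      rw [← hu, map_pow, map_pow, ← hη, hh])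
    have hLQ : ∀ π π' : F ≃+* F, η * σ (π η) = π' η → π.trans σ = RingEquiv.refl F ∧ π' = fr := by
      intro π π' hh
      obtain ⟨h1, h2⟩ := hb.three (RingEquiv.refl F) (π.trans σ) π' (by
        rw [RingEquiv.refl_apply, RingEquiv.trans_apply, ← hu, map_pow, map_pow, map_pow, ← hη,
          ← mul_pow, hh])
      exact ⟨h1.symm, RingEquiv.ext fun x => by rw [hfr2]; exact h2 x⟩
    have hLT : ∀ π τ : F ≃+* F, π η ≠ τ b := by
      intro π τ hh
      obtain ⟨h1, h2⟩ := hb.three σ (τ.trans π.symm) (RingEquiv.refl F) (by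
        rw [RingEquiv.trans_apply, ← hh, RingEquiv.symm_apply_apply, RingEquiv.refl_apply, hη,
          mul_div_cancel₀ _ (by simpa using hb0)])
      exact hnσ fun x => by rw [map_mul]; exact (h2 x).symm
    -- all coefficients except the one of squaring vanish
    have hd1 : ∀ π₀, π₀ ≠ fr → d π₀ = 0 := by
      intro π₀ hπ₀
      have h := coeff_eq_zero Finset.univ mI cI hall (mI (Sum.inl π₀))
      rw [Finset.sum_eq_single (Sum.inl π₀) (fun i hi hne => ?_) (fun h' => absurd (by simp) h')] at h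
      · exact h
      rw [Finset.mem_filter] at hi
      rcases i with π | π | τ
      · exact absurd (congrArg Sum.inl (hLL _ _ hi.2)) hne
      · exact absurd (hLQ _ _ hi.2).2 hπ₀
      · exact absurd hi.2.symm (hLT _ _)
    have hd2 : d fr = 0 := by
      have h := coeff_eq_zero Finset.univ mI cI hall (mI (Sum.inl fr))
      rw [Finset.sum_eq_single (Sum.inl fr) (fun i hi hne => ?_) (fun h' => absurd (by simp) h')] at h
      · exact h
      rw [Finset.mem_filter] at hi
      rcases i with π | π | τ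
      · exact absurd (congrArg Sum.inl (hLL _ _ hi.2)) hne
      · have hρπ := (hLQ _ _ hi.2).1
        show σ (d π) = 0
        by_cases hπ : π = fr
        · subst hπ
          refine absurd (fun x => ?_) hnσ
          have := RingEquiv.congr_fun hρπ x
          rw [RingEquiv.trans_apply, hfr2, RingEquiv.refl_apply] at this
          exact this
        · rw [hd1 π hπ, map_zero]
      · exact absurd hi.2.symm (hLT _ _)
    have hA1 : A₁ (c g σ) = 0 := by
      rw [← hd]
      refine Finset.sum_eq_zero fun π _ => ?_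
      by_cases hπ : π = fr
      · rw [hπ, hd2, zero_mul]
      · rw [hd1 π hπ, zero_mul]
    rw [hCc (g' := G (c g σ)) (funext fun τ => ?_) h]
    · exact Φ.symm.injective (hA1.trans (map_zero _).symm)
    · rw [hG]
      by_cases hτ : τ = σ
      · subst hτ; simp
      · simp [hτ, hg τ hτ]
  have hvanish : ∀ (s : Finset (F ≃+* F)), σ₀ ∉ s → ∀ g, (∀ τ ∉ s, c g τ = 0) → ∀ h, C₀ g h = 0 := by
    intro s
    induction s using Finset.induction with
    | empty => exact fun _ g hg h => hCker (hcE (funext fun τ => hg τ (Finset.notMem_empty τ))) h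
    | insert σ s hσs ih =>
      intro hs g hg h
      simp only [Finset.mem_insert, not_or] at hs
      obtain ⟨gσ, hgσ⟩ : ∃ g', c g' = Pi.single σ (c g σ) := by
        by_cases h0 : c g σ = 0
        · exact ⟨1, by rw [h0, Pi.single_zero]; have := hcmul 1 1; rwa [one_mul, left_eq_add] at this⟩
        · exact hsingle σ ⟨g, h0⟩ _
      have h1 : C₀ gσ h = 0 := hone σ (Ne.symm hs.1) gσ (fun τ hτ => by rw [hgσ]; simp [hτ]) h
      have h2 : C₀ (g * gσ⁻¹) h = 0 := by
        refine ih hs.2 _ (fun τ hτ => ?_) h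
        rw [hcmul, hcinv, Pi.add_apply, hgσ]
        by_cases hτσ : τ = σ
        · subst hτσ; simp [h2F]
        · simp [hτσ, hg τ (by simp [hτ, hτσ])]
      have := hCmul (g * gσ⁻¹) gσ h
      rwa [inv_mul_cancel_right, h1, h2, add_zero] at this
  -- so everything reduces to the coordinate `σ₀`
  have hzero0 : ∀ g h, C₀ g h = 0 := by
    by_cases hJ : ∀ g, c g σ₀ = 0
    · intro g h
      refine hvanish (Finset.univ.erase σ₀) (Finset.notMem_erase _ _) g (fun τ hτ => ?_) h
      simp only [Finset.mem_erase, Finset.mem_univ, and_true, not_not] at hτ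
      rw [hτ, hJ]
    push Not at hJ
    choose G hG using hsingle σ₀ hJ
    have hred : ∀ g h, C₀ g h = C₀ (G (c g σ₀)) h := by
      intro g h
      have h2 : C₀ (g * (G (c g σ₀))⁻¹) h = 0 := by
        refine hvanish (Finset.univ.erase σ₀) (Finset.notMem_erase _ _) _ (fun τ hτ => ?_) h
        simp only [Finset.mem_erase, Finset.mem_univ, and_true, not_not] at hτ
        subst hτ
        rw [hcmul, hcinv, Pi.add_apply, hG, Pi.single_eq_same, h2F]
      have := hCmul (g * (G (c g σ₀))⁻¹) (G (c g σ₀)) h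
      rwa [inv_mul_cancel_right, h2, zero_add] at this
    have hadd : ∀ t t' h, C₀ (G (t + t')) h = C₀ (G t) h + C₀ (G t') h := by
      intro t t' h
      rw [← hCmul]
      exact hCc (by rw [hG, hcmul, hG, hG, Pi.single_add]) h
    let B : F →+ F →+ F := AddMonoidHom.mk' (fun t => AddMonoidHom.mk'
      (fun s => σ₀ (Φ.symm (C₀ (G t) (G s)))) fun s s' => by
        rw [← map_add σ₀, ← map_add Φ.symm, hCsymm, hadd, hCsymm (G s), hCsymm (G s')])
      fun t t' => AddMonoidHom.ext fun s => by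
        simp only [AddMonoidHom.mk'_apply, AddMonoidHom.add_apply]
        rw [hadd, map_add, map_add]
    have hη₀ : b / σ₀ b = σ₀ b := by
      rw [div_eq_iff (by simpa using hb0), ← map_mul, hσ₀2]
    have hB := alternating_eq_zero (hb.map σ₀) B
      (fun t => by
        show σ₀ (Φ.symm (C₀ (G t) (G t))) = 0
        have : C₀ (G t) (G t) = 0 := Additive.toMul.injective (Subtype.ext (by
          rw [hCval, commutatorElement_self, one_mul]; rfl))
        rw [this, map_zero, map_zero])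
      (fun t s => by
        have hGk : ∀ r, c (G (σ₀ b * r)) = c (((y₀ ^ 1 : K) : MulAut P) (G r)) := fun r =>
          funext fun τ => by
            rw [hceq, hG, hG]
            by_cases hτ : τ = σ₀
            · subst hτ; simp [hη₀]
            · simp [hτ]
        show σ₀ (Φ.symm (C₀ (G (σ₀ b * t)) (G (σ₀ b * s)))) = σ₀ b * σ₀ (Φ.symm (C₀ (G t) (G s)))
        rw [hCc (hGk t), hCsymm, hCc (hGk s), hCsymm]
        have hCk : C₀ (((y₀ ^ 1 : K) : MulAut P) (G t)) (((y₀ ^ 1 : K) : MulAut P) (G s)) =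
            ρ₀ (y₀ ^ 1) (C₀ (G t) (G s)) :=
          Additive.toMul.injective (Subtype.ext (by
            rw [hCval, hρ, hCval, map_mul, map_commutatorElement]))
        rw [hCk, show ρ₀ (y₀ ^ 1) (C₀ (G t) (G s)) = Φ (b * Φ.symm (C₀ (G t) (G s))) by
          rw [← hΦ₁, Φ.apply_symm_apply, pow_one], Φ.symm_apply_apply, map_mul])
    intro g h
    rw [hred g h, hCsymm, hred h, hCsymm]
    apply Φ.symm.injective
    apply σ₀.injective
    rw [map_zero, map_zero]
    exact hB (c g σ₀) (c h σ₀)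
  refine huv (hS.mem_center ?_)
  rw [← hCval, hzero0]
  rfl

/-- In a Suzuki 2-group squares are central. -/
theorem sq_mem_center (x : P) : x * x ∈ Subgroup.center P := by
  rw [Subgroup.mem_center_iff]
  intro g
  refine (commutatorElement_eq_one_iff_mul_comm.1 ?_).symm
  have hc := hS.commutator_mem_center x g
  calc ⁅x * x, g⁆ = x * ⁅x, g⁆ * x⁻¹ * ⁅x, g⁆ := by simp only [commutatorElement_def]; group
    _ = 1 := by rw [Subgroup.mem_center_iff.1 hc x, mul_inv_cancel_right, hS.center_sq _ hc]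

end Setting

end CfsgLib.SolvableTransitive
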