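import Mathlib

/-!
# Congruences between sums of two powers of two

Modulo a divisor `m = (2 ^ n - 1) / d` with `d ∣ n` these congruences are equalities.
-/

set_option autoImplicit false

namespace CfsgLib.SolvableTransitive

/-- `m * d = 2 ^ n - 1` with `d ∣ n`. -/
structure Cofactor (n d m : ℕ) : Prop where
  two_le : 2 ≤ n
  dvd : d ∣ n
  mul : m * d + 1 = 2 ^ n

theorem two_pow_pow_eq {a b c e : ℕ} (h : 2 ^ a + 2 ^ b = 2 ^ c + 2 ^ e) :
    (a = c ∧ b = e) ∨ (a = e ∧ b = c) := by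
  have key : ∀ {x y z w : ℕ}, x ≤ y → z ≤ w → 2 ^ x + 2 ^ y = 2 ^ z + 2 ^ w → y < w → False := by
    intro x y z w hxy _ h hlt
    have h1 : (2 : ℕ) ^ x ≤ 2 ^ y := Nat.pow_le_pow_right two_pos hxy
    have h2 : (2 : ℕ) ^ (y + 1) ≤ 2 ^ w := Nat.pow_le_pow_right two_pos hlt
    have h3 : 0 < (2 : ℕ) ^ z := Nat.two_pow_pos z
    rw [pow_succ] at h2
    omega
  have main : ∀ {x y z w : ℕ}, x ≤ y → z ≤ w → 2 ^ x + 2 ^ y = 2 ^ z + 2 ^ w → x = z ∧ y = w := by
    intro x y z w hxy hzw h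
    rcases lt_trichotomy y w with hlt | rfl | hlt
    · exact absurd hlt fun hh => key hxy hzw h hh
    · exact ⟨Nat.pow_right_injective le_rfl (Nat.add_right_cancel h), rfl⟩
    · exact absurd hlt fun hh => key hzw hxy h.symm hh
  rcases le_total a b with h1 | h1 <;> rcases le_total c e with h2 | h2
  · exact Or.inl (main h1 h2 h)
  · exact Or.inr (main h1 h2 (h.trans (add_comm _ _)))
  · obtain ⟨r, s⟩ := main h1 h2 ((add_comm _ _).trans h)
    exact Or.inr ⟨s, r⟩
  · obtain ⟨r, s⟩ := main h1 h2 (((add_comm _ _).trans h).trans (add_comm _ _))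
    exact Or.inl ⟨s, r⟩

theorem two_pow_add_eq {a b c : ℕ} (h : 2 ^ a + 2 ^ b = 2 ^ c) : a = b ∧ c = a + 1 := by
  have key : ∀ {x y : ℕ}, x < y → 2 ^ x + 2 ^ y ≠ 2 ^ c := by
    intro x y hlt h
    have h1 : (2 : ℕ) ^ (x + 1) ≤ 2 ^ y := Nat.pow_le_pow_right two_pos hlt
    have h0 : 0 < (2 : ℕ) ^ x := Nat.two_pow_pos x
    rw [pow_succ] at h1
    rcases le_or_gt c y with hc | hc
    · have h2 : (2 : ℕ) ^ c ≤ 2 ^ y := Nat.pow_le_pow_right two_pos hc
      omega
    · have h2 : (2 : ℕ) ^ (y + 1) ≤ 2 ^ c := Nat.pow_le_pow_right two_pos hc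
      rw [pow_succ] at h2
      omega
  rcases lt_trichotomy a b with hlt | rfl | hlt
  · exact absurd h (key hlt)
  · exact ⟨rfl, Nat.pow_right_injective le_rfl (by simp only [pow_succ]; omega)⟩
  · exact absurd ((add_comm _ _).trans h) (key hlt)

theorem lin_lt_pow {g : ℕ} (hg : 6 ≤ g) : 4 * g < 2 ^ (g - 1) := by
  induction g, hg using Nat.le_induction with
  | base => norm_num
  | succ g hg ih =>
    obtain ⟨g', rfl⟩ : ∃ g', g = g' + 1 := ⟨g - 1, by omega⟩
    rw [Nat.add_sub_cancel] at ih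
    rw [Nat.add_sub_cancel, pow_succ]
    omega

namespace Cofactor

variable {n d m : ℕ} (h : Cofactor n d m)
include h

theorem d_le : d ≤ n := Nat.le_of_dvd (by have := h.two_le; omega) h.dvd

theorem one_modEq : 2 ^ n ≡ 1 [MOD m] := by
  rw [← h.mul]
  exact (Nat.modEq_iff_dvd' le_add_self).mpr ⟨d, by omega⟩ |>.symm

theorem pow_modEq (a : ℕ) : 2 ^ a ≡ 2 ^ (a % n) [MOD m] := by
  conv_lhs => rw [← Nat.div_add_mod a n, pow_add, pow_mul]
  simpa using (h.one_modEq.pow (a / n)).mul_right (2 ^ (a % n))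

/-- Small numbers congruent modulo `m` are equal. -/
theorem eq_of_modEq {g x y : ℕ} (hg : g ≤ n) (hn : n < 2 ^ (g - 1)) (hx : x ≤ 2 ^ (n - g + 1))
    (hy : y ≤ 2 ^ (n - g + 1)) (hxy : x ≡ y [MOD m]) : x = y := by
  have hg1 : 1 ≤ g := by
    by_contra hc
    have := h.two_le
    rw [show g = 0 by omega] at hn
    simp at hn
    omega
  have hbig : 2 ^ (n - g + 1) < m := by
    by_contra hc
    have h1 : m * d ≤ 2 ^ (n - g + 1) * n := Nat.mul_le_mul (not_lt.mp hc) h.d_le
    have h2 : 2 ^ (n - g + 1) * (n + 1) ≤ 2 ^ (n - g + 1) * 2 ^ (g - 1) :=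
      Nat.mul_le_mul_left _ hn
    rw [← pow_add, show n - g + 1 + (g - 1) = n by omega, ← h.mul, mul_add, mul_one] at h2
    have h3 : 2 ^ 1 ≤ 2 ^ (n - g + 1) := Nat.pow_le_pow_right two_pos (by omega)
    omega
  exact hxy.eq_of_lt_of_lt (hx.trans_lt hbig) (hy.trans_lt hbig)

end Cofactor

theorem rot_eq {n x i : ℕ} (hx : x < n) (hi : i ≤ n) :
    (x + (n - i)) % n = if i ≤ x then x - i else x + (n - i) := by
  split_ifs with h
  · rw [show x + (n - i) = x - i + n by omega, Nat.add_mod_right, Nat.mod_eq_of_lt (by omega)]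
  · rw [Nat.mod_eq_of_lt (by omega)]

/-- Three points on a cycle fit into two thirds of it. -/
theorem exists_rot3 {n g a b : ℕ} (hn : 0 < n) (ha : a < n) (hb : b < n) (hg : 3 * g ≤ n + 2) :
    ∃ r ≤ n, (0 + (n - r)) % n ≤ n - g ∧ (a + (n - r)) % n ≤ n - g ∧
      (b + (n - r)) % n ≤ n - g := by
  have key : ∀ r, r < n →
      (if r ≤ 0 then 0 - r else 0 + (n - r)) ≤ n - g →
      (if r ≤ a then a - r else a + (n - r)) ≤ n - g →
      (if r ≤ b then b - r else b + (n - r)) ≤ n - g →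
      ∃ r ≤ n, (0 + (n - r)) % n ≤ n - g ∧ (a + (n - r)) % n ≤ n - g ∧
      (b + (n - r)) % n ≤ n - g := by
    intro r hr h0 h1 h2
    refine ⟨r, hr.le, ?_⟩
    rw [rot_eq hn hr.le, rot_eq ha hr.le, rot_eq hb hr.le]
    exact ⟨h0, h1, h2⟩
  by_cases c0 : a ≤ n - g ∧ b ≤ n - g
  · exact key 0 hn (by simp) (by simpa using c0.1) (by simpa using c0.2)
  by_cases c1 : (if a ≤ 0 then 0 - a else 0 + (n - a)) ≤ n - g ∧
      (if a ≤ b then b - a else b + (n - a)) ≤ n - g
  · exact key a ha c1.1 (by simp) c1.2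
  refine key b hb ?_ ?_ (by simp)
  all_goals split_ifs at c1 ⊢ <;> omega

/-- Four points on a cycle fit into three quarters of it. -/
theorem exists_rot4 {n g a b c : ℕ} (hn : 0 < n) (ha : a < n) (hb : b < n) (hc : c < n)
    (hg : 4 * g ≤ n + 3) :
    ∃ r ≤ n, (0 + (n - r)) % n ≤ n - g ∧ (a + (n - r)) % n ≤ n - g ∧
      (b + (n - r)) % n ≤ n - g ∧ (c + (n - r)) % n ≤ n - g := by
  have key : ∀ r, r < n →
      (if r ≤ 0 then 0 - r else 0 + (n - r)) ≤ n - g →
      (if r ≤ a then a - r else a + (n - r)) ≤ n - g →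
      (if r ≤ b then b - r else b + (n - r)) ≤ n - g →
      (if r ≤ c then c - r else c + (n - r)) ≤ n - g →
      ∃ r ≤ n, (0 + (n - r)) % n ≤ n - g ∧ (a + (n - r)) % n ≤ n - g ∧
      (b + (n - r)) % n ≤ n - g ∧ (c + (n - r)) % n ≤ n - g := by
    intro r hr h0 h1 h2 h3
    refine ⟨r, hr.le, ?_⟩
    rw [rot_eq hn hr.le, rot_eq ha hr.le, rot_eq hb hr.le, rot_eq hc hr.le]
    exact ⟨h0, h1, h2, h3⟩
  by_cases c0 : a ≤ n - g ∧ b ≤ n - g ∧ c ≤ n - g
  · exact key 0 hn (by simp) (by simpa using c0.1) (by simpa using c0.2.1) (by simpa using c0.2.2)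
  by_cases c1 : (if a ≤ 0 then 0 - a else 0 + (n - a)) ≤ n - g ∧
      (if a ≤ b then b - a else b + (n - a)) ≤ n - g ∧
      (if a ≤ c then c - a else c + (n - a)) ≤ n - g
  · exact key a ha c1.1 (by simp) c1.2.1 c1.2.2
  by_cases c2 : (if b ≤ 0 then 0 - b else 0 + (n - b)) ≤ n - g ∧
      (if b ≤ a then a - b else a + (n - b)) ≤ n - g ∧
      (if b ≤ c then c - b else c + (n - b)) ≤ n - g
  · exact key b hb c2.1 c2.2.1 (by simp) c2.2.2
  refine key c hc ?_ ?_ ?_ (by simp)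
  all_goals split_ifs at c1 c2 ⊢ <;> omega

/-- The finite check for the three term congruence. -/
def check3 (n d : ℕ) : Bool :=
  n % d != 0 || (2 ^ n - 1) % d != 0 ||
    (List.range n).all fun i => (List.range n).all fun k =>
      (1 + 2 ^ k) % ((2 ^ n - 1) / d) != 2 ^ i % ((2 ^ n - 1) / d) || (k == 0 && i == 1)

theorem check3_all : ((List.range 15).all fun n => (List.range (n + 1)).all fun d =>
    (n < 2 || d == 0) || check3 n d) = true := by decide +kernel

/-- The finite check for the four term congruence. -/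
def check4 (n d : ℕ) : Bool :=
  n % d != 0 || (2 ^ n - 1) % d != 0 ||
    (List.range n).all fun t => t == 0 || Nat.gcd (2 ^ t - 1) ((2 ^ n - 1) / d) != 1 ||
      (List.range n).all fun u => u == 0 || Nat.gcd (2 ^ u - 1) ((2 ^ n - 1) / d) != 1 ||
        (List.range n).all fun i =>
          (2 ^ i + 2 ^ u) % ((2 ^ n - 1) / d) != (2 ^ (i + t) + 1) % ((2 ^ n - 1) / d) ||
            (i == 0 && t == u)

theorem check4_all : ((List.range 21).all fun n => (List.range (n + 1)).all fun d =>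
    (n < 2 || d == 0) || check4 n d) = true := by decide +kernel

namespace Cofactor

variable {n d m : ℕ} (h : Cofactor n d m)
include h

theorem check_hyp : d ≠ 0 ∧ n % d = 0 ∧ (2 ^ n - 1) % d = 0 ∧ (2 ^ n - 1) / d = m := by
  have hd : d ≠ 0 := by
    rintro rfl
    have := Nat.eq_zero_of_zero_dvd h.dvd
    have := h.two_le
    omega
  have h1 : 2 ^ n - 1 = m * d := by have := h.mul; omega
  refine ⟨hd, Nat.mod_eq_zero_of_dvd h.dvd, ?_, ?_⟩
  · rw [h1, Nat.mul_mod_left]
  · rw [h1, Nat.mul_div_cancel _ (by omega)]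

/-- `1 + 2 ^ k ≡ 2 ^ i` only for `k = 0`, `i = 1`. -/
theorem three_term {i k : ℕ} (hi : i < n) (hk : k < n) (hc : 1 + 2 ^ k ≡ 2 ^ i [MOD m]) :
    k = 0 ∧ i = 1 := by
  rcases lt_or_ge n 15 with hn | hn
  · obtain ⟨hd, hdn, hdM, hm⟩ := h.check_hyp
    have hdle := h.d_le
    have h2 := h.two_le
    have h1 := List.all_eq_true.mp check3_all n (List.mem_range.mpr hn)
    have h1 := List.all_eq_true.mp h1 d (List.mem_range.mpr (by omega))
    simp only [check3, hdn, hdM, hm, bne_self_eq_false, Bool.false_or, Bool.or_eq_true,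
      decide_eq_true_eq, beq_iff_eq, List.all_eq_true, List.mem_range, bne_iff_ne,
      Bool.and_eq_true] at h1
    rcases h1 with h1 | h1
    · omega
    rcases h1 i hi k hk with h3 | h3
    · exact absurd hc h3
    · exact h3
  · obtain ⟨g, hg1, hg2⟩ : ∃ g, 3 * g ≤ n + 2 ∧ n ≤ 3 * g := ⟨(n + 2) / 3, by omega, by omega⟩
    have hbig : n < 2 ^ (g - 1) := by
      rcases (show g = 5 ∨ 6 ≤ g by omega) with rfl | h6
      · norm_num; omega
      · have := lin_lt_pow h6; omega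
    obtain ⟨r, hr, h0, h1, h2⟩ := exists_rot3 (by omega : 0 < n) hk hi hg1
    have hrot : 2 ^ ((0 + (n - r)) % n) + 2 ^ ((k + (n - r)) % n) ≡ 2 ^ ((i + (n - r)) % n) [MOD m] := by
      refine ((h.pow_modEq _).symm.add (h.pow_modEq _).symm).trans (Nat.ModEq.trans ?_ (h.pow_modEq _))
      rw [zero_add, pow_add, pow_add, ← one_add_mul]
      exact hc.mul_right _
    have hb : ∀ {x : ℕ}, x ≤ n - g → 2 ^ x ≤ 2 ^ (n - g) := fun hx =>
      Nat.pow_le_pow_right two_pos hx
    have heq := h.eq_of_modEq (by omega) hbig (by rw [pow_succ]; have := hb h0; have := hb h1; omega)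
      (by rw [pow_succ]; have := hb h2; omega) hrot
    obtain ⟨e1, e2⟩ := two_pow_add_eq heq
    simp only [rot_eq hk hr, rot_eq hi hr, rot_eq (show 0 < n by omega) hr] at e1 e2
    constructor <;> (split_ifs at e1 e2 <;> omega)

/-- The four term congruence. -/
theorem four_term {i t u : ℕ} (hi : i < n) (ht : t < n) (hu : u < n) (ht0 : t ≠ 0) (hu0 : u ≠ 0)
    (htm : Nat.gcd (2 ^ t - 1) m = 1) (hum : Nat.gcd (2 ^ u - 1) m = 1)
    (hc : 2 ^ i + 2 ^ u ≡ 2 ^ (i + t) + 1 [MOD m]) : i = 0 ∧ t = u := by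
  rcases lt_or_ge n 21 with hn | hn
  · obtain ⟨hd, hdn, hdM, hm⟩ := h.check_hyp
    have hdle := h.d_le
    have h2 := h.two_le
    have h1 := List.all_eq_true.mp check4_all n (List.mem_range.mpr hn)
    have h1 := List.all_eq_true.mp h1 d (List.mem_range.mpr (by omega))
    simp only [check4, hdn, hdM, hm, bne_self_eq_false, Bool.false_or, Bool.or_eq_true,
      decide_eq_true_eq, beq_iff_eq, List.all_eq_true, List.mem_range, bne_iff_ne,
      Bool.and_eq_true] at h1
    rcases h1 with h1 | h1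
    · omega
    rcases h1 t ht with (h3 | h3) | h3
    · exact absurd h3 ht0
    · exact absurd htm h3
    rcases h3 u hu with (h4 | h4) | h4
    · exact absurd h4 hu0
    · exact absurd hum h4
    rcases h4 i hi with h5 | h5
    · exact absurd hc h5
    · exact h5
  · obtain ⟨g, hg1, hg2⟩ : ∃ g, 4 * g ≤ n + 3 ∧ n ≤ 4 * g := ⟨(n + 3) / 4, by omega, by omega⟩
    have hbig : n < 2 ^ (g - 1) := by have := lin_lt_pow (show 6 ≤ g by omega); omega
    have hit : (i + t) % n < n := Nat.mod_lt _ (by omega)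
    obtain ⟨r, hr, h0, h1, h2, h3⟩ := exists_rot4 (by omega : 0 < n) hi hu hit hg1
    have hrot : 2 ^ ((i + (n - r)) % n) + 2 ^ ((u + (n - r)) % n) ≡
        2 ^ (((i + t) % n + (n - r)) % n) + 2 ^ ((0 + (n - r)) % n) [MOD m] := by
      refine ((h.pow_modEq _).symm.add (h.pow_modEq _).symm).trans (Nat.ModEq.trans ?_
        ((h.pow_modEq _).add (h.pow_modEq _)))
      rw [zero_add, pow_add, pow_add, pow_add, ← add_mul, ← add_one_mul]
      refine (hc.mul_right _).trans (Nat.ModEq.mul_right _ ?_)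
      exact (h.pow_modEq _).add_right 1
    have hb : ∀ {x : ℕ}, x ≤ n - g → 2 ^ x ≤ 2 ^ (n - g) := fun hx =>
      Nat.pow_le_pow_right two_pos hx
    have heq := h.eq_of_modEq (by omega) hbig (by rw [pow_succ]; have := hb h1; have := hb h2; omega)
      (by rw [pow_succ]; have := hb h0; have := hb h3; omega) hrot
    rw [rot_eq hi hr, rot_eq hu hr, rot_eq hit hr, rot_eq (show 0 < n by omega) hr] at heq
    have hmod : (i + t) % n = if i + t < n then i + t else i + t - n := by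
      split_ifs with hlt
      · exact Nat.mod_eq_of_lt hlt
      · rw [Nat.mod_eq_sub_mod (by omega), Nat.mod_eq_of_lt (by omega)]
    rcases two_pow_pow_eq heq with ⟨e1, e2⟩ | ⟨e1, e2⟩ <;>
      (simp only [hmod] at e1 e2; constructor <;> (split_ifs at e1 e2 <;> omega))

end Cofactor

end CfsgLib.SolvableTransitive
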