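import Cfsg.Agent.SolvableTransitive.Setting
import Cfsg.Agent.SuzukiTwoGroup.Center

/-!
A finite 2-group with a solvable group of automorphisms transitive on its involutions and a central
element of order at least four is abelian (after Higman).
-/

set_option autoImplicit false
set_option linter.unusedSectionVars false
set_option linter.style.haveILetI false

namespace CfsgLib.SolvableTransitive

open scoped commutatorElement
open CfsgLib.SuzukiTwoGroup (involution_mem_center act_center exists_central_sqrt)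

section Structure

variable {P : Type*} [Group P] [Finite P] {K : Type*} [Group K] (act : K →* MulAut P)
  (htr : ∀ x y : P, x ≠ 1 → x * x = 1 → y ≠ 1 → y * y = 1 → ∃ k, act k x = y)

include htr

/-- The case with commutators and squares in the centre. -/
theorem mul_comm_class_two [Finite K] [Group.IsSolvable K] (hP : IsPGroup 2 P) {z : P}
    (hz : z ∈ Subgroup.center P) (hz2 : z * z ≠ 1)
    (hcomm : ∀ x y : P, ⁅x, y⁆ * ⁅x, y⁆ = 1) (hsq : ∀ x : P, x * x ∈ Subgroup.center P) :
    ∀ x y : P, x * y = y * x := by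
  classical
  haveI : Fact (Nat.Prime 2) := ⟨Nat.prime_two⟩
  set Z := Subgroup.center P with hZ
  have hcZ : ∀ x y : P, ⁅x, y⁆ ∈ Z := fun x y => involution_mem_center act htr hP (hcomm x y)
  have hcm : ∀ {c : P}, c ∈ Z → ∀ g : P, Commute c g := fun hc g => (Subgroup.mem_center_iff.1 hc g).symm
  -- the exponent of the centre
  obtain ⟨J, hJ1, hJ, ⟨v, hvZ, hv⟩⟩ : ∃ J, 1 ≤ J ∧ (∀ c ∈ Z, c ^ 2 ^ (J + 1) = 1) ∧
      ∃ v ∈ Z, v ^ 2 ^ J ≠ 1 := by
    have hex : ∃ N, ∀ c ∈ Z, c ^ 2 ^ N = 1 := by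
      obtain ⟨N, hN⟩ := IsPGroup.iff_card.1 hP
      exact ⟨N, fun c _ => by rw [← hN]; exact pow_card_eq_one'⟩
    have hN2 : 2 ≤ Nat.find hex := by
      by_contra h
      apply hz2
      have h1 := Nat.find_spec hex z hz
      rcases Nat.lt_succ_iff.1 (not_le.1 h) |> Nat.le_one_iff_eq_zero_or_eq_one.1 with h0 | h0
      · rw [h0, pow_zero, pow_one] at h1; rw [h1, one_mul]
      · rw [h0, pow_one, pow_two] at h1; exact h1
    refine ⟨Nat.find hex - 1, by omega, fun c hc => ?_, ?_⟩
    · rw [show Nat.find hex - 1 + 1 = Nat.find hex by omega]; exact Nat.find_spec hex c hc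
    · have h := Nat.find_min hex (m := Nat.find hex - 1) (by omega)
      push Not at h
      exact h
  have hvv : v ^ 2 ^ J * v ^ 2 ^ J = 1 := by
    rw [← pow_add, ← two_mul, ← pow_succ']; exact hJ v hvZ
  -- `θ`: elements killed by `2 ^ J` are squares in the centre
  have hker : ∀ i ≤ J, ∀ c ∈ Z, c ^ 2 ^ i = 1 → ∃ w ∈ Z, w * w = c := by
    intro i
    induction i with
    | zero => intro _ c _ h; exact ⟨1, one_mem _, by rw [mul_one]; simpa using h.symm⟩
    | succ i ih =>
      intro hi c hc h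
      by_cases hu : c ^ 2 ^ i = 1
      · exact ih (by omega) c hc hu
      obtain ⟨k, hk⟩ := htr (v ^ 2 ^ J) (c ^ 2 ^ i) hv hvv hu (by rw [← pow_add, ← two_mul, ← pow_succ']; exact h)
      set v' := act k v
      have hv' : v' ∈ Z := act_center act htr k hvZ
      set d := v' ^ 2 ^ (J - i - 1)
      have hd : (d * d) ^ 2 ^ i = c ^ 2 ^ i := by
        rw [← pow_two, ← pow_mul, ← pow_mul, ← hk, map_pow]
        congr 1
        rw [← pow_succ' 2 i, ← pow_add]
        congr 1
        omega
      have hdZ : d * d ∈ Z := mul_mem (pow_mem hv' _) (pow_mem hv' _)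
      obtain ⟨w, hw, hww⟩ := ih (by omega) (c * (d * d)⁻¹) (mul_mem hc (inv_mem hdZ)) (by
        rw [(hcm hc _).mul_pow, inv_pow, hd, mul_inv_cancel])
      refine ⟨w * d, mul_mem hw (pow_mem hv' _), ?_⟩
      calc w * d * (w * d) = w * w * (d * d) := (hcm hw d).symm.mul_mul_mul_comm _ _
        _ = c := by rw [hww, inv_mul_cancel_right]
  -- squaring followed by `θ`
  let E : Subgroup P :=
    { carrier := {x | x * x = 1}
      one_mem' := mul_one 1
      mul_mem' := fun {x y} hx hy => by
        show x * y * (x * y) = 1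
        rw [(hcm (involution_mem_center act htr hP hx) y).symm.mul_mul_mul_comm x y, hx, hy, one_mul]
      inv_mem' := fun {x} hx => by
        show x⁻¹ * x⁻¹ = 1
        rw [← mul_inv_rev, hx, inv_one] }
  letI : CommGroup E := { (inferInstance : Group E) with
    mul_comm := fun x y => Subtype.ext (hcm (involution_mem_center act htr hP x.2) y).eq }
  have hsqmul : ∀ x y : P, x * y * (x * y) = x * x * (y * y) * ⁅y, x⁆ := by
    intro x y
    calc x * y * (x * y) = x * (⁅y, x⁆ * (x * y)) * y := by rw [commutatorElement_def]; group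
      _ = ⁅y, x⁆ * (x * (x * y) * y) := by rw [← mul_assoc x, ← (hcm (hcZ y x) x).eq]; group
      _ = _ := by rw [(hcm (hcZ y x) _).eq]; group
  let ψ : P →* E :=
    { toFun := fun x => ⟨(x * x) ^ 2 ^ J, by
        show _ * _ = 1
        rw [← pow_add, ← two_mul, ← pow_succ']; exact hJ _ (hsq x)⟩
      map_one' := Subtype.ext (by simp)
      map_mul' := fun x y => Subtype.ext (by
        show (x * y * (x * y)) ^ 2 ^ J = (x * x) ^ 2 ^ J * (y * y) ^ 2 ^ J
        rw [hsqmul, ((hcm (hcZ y x) _).symm).mul_pow, (hcm (hsq x) _).mul_pow]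
        obtain ⟨j, hj⟩ := Nat.exists_eq_add_of_le hJ1
        rw [show ⁅y, x⁆ ^ 2 ^ J = 1 by rw [hj, pow_add, pow_one, pow_mul, pow_two, hcomm, one_pow],
          mul_one]) }
  have hψ : ∀ x : P, ψ x = 1 → x ∈ Z := by
    intro x hx
    obtain ⟨w, hw, hww⟩ := hker J le_rfl (x * x) (hsq x) (congrArg Subtype.val hx)
    have h1 : x * w⁻¹ * (x * w⁻¹) = 1 := by
      rw [((hcm (inv_mem hw) x)).symm.symm.mul_mul_mul_comm x w⁻¹, ← mul_inv_rev, hww, mul_inv_cancel]
    have h3 := mul_mem (involution_mem_center act htr hP h1) hw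
    rwa [inv_mul_cancel_right] at h3
  by_contra hna
  push Not at hna
  obtain ⟨a, b, hab⟩ := hna
  have hactE : ∀ (k : K) (u : E), act k u ∈ E := fun k u => by
    show act k u * act k u = 1
    rw [← map_mul, u.2, map_one]
  let ρ : K →* AddMonoid.End (Additive E) :=
    { toFun := fun k => MonoidHom.toAdditive
        (((act k).toMonoidHom.comp E.subtype).codRestrict E (hactE k))
      map_one' := by ext u; simp; rfl
      map_mul' := fun k l => by ext u; simp; rfl }
  have hρ : ∀ k (u : E), ((ρ k (Additive.ofMul u)).toMul : P) = act k u := fun k u => rfl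
  have hψeq : ∀ k x, ψ (act k x) = (ρ k (Additive.ofMul (ψ x))).toMul := fun k x => Subtype.ext (by
    show (act k x * act k x) ^ 2 ^ J = act k ((x * x) ^ 2 ^ J)
    rw [map_pow, map_mul])
  have hsurj : Function.Surjective ψ := by
    intro u
    by_cases hu : u = 1
    · exact ⟨1, by rw [map_one, hu]⟩
    have hψa : ψ a ≠ 1 := fun h => hab ((hcm (hψ a h) b).eq)
    obtain ⟨k, hk⟩ := htr (ψ a : P) u (fun h => hψa (Subtype.ext h)) (ψ a).2
      (fun h => hu (Subtype.ext h)) u.2
    exact ⟨act k a, Subtype.ext (by rw [hψeq, hρ, hk])⟩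
  have hwd : ∀ x x' y : P, ψ x = ψ x' → ⁅x, y⁆ = ⁅x', y⁆ := by
    intro x x' y h
    have hc : x'⁻¹ * x ∈ Z := hψ _ (by rw [map_mul, map_inv, h, inv_mul_cancel])
    rw [show x = x' * (x'⁻¹ * x) by group, commutatorElement_def, commutatorElement_def]
    calc x' * (x'⁻¹ * x) * y * (x' * (x'⁻¹ * x))⁻¹ * y⁻¹
        = x' * ((x'⁻¹ * x) * y * (x'⁻¹ * x)⁻¹) * x'⁻¹ * y⁻¹ := by group
      _ = _ := by rw [(hcm hc y).eq, mul_inv_cancel_right]
  have hwd' : ∀ x y y' : P, ψ y = ψ y' → ⁅x, y⁆ = ⁅x, y'⁆ := by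
    intro x y y' h
    rw [← commutatorElement_inv y x, ← commutatorElement_inv y' x, hwd y y' x h]
  choose s hs using hsurj
  let B₀ : E → E → E := fun u v => ⟨⁅s u, s v⁆, hcomm _ _⟩
  have hB₀ : ∀ x y, B₀ (ψ x) (ψ y) = ⟨⁅x, y⁆, hcomm _ _⟩ := fun x y => Subtype.ext (by
    show ⁅s (ψ x), s (ψ y)⁆ = ⁅x, y⁆
    rw [hwd _ x _ (hs _), hwd' x _ y (hs _)])
  have hadd : ∀ x x' y : P, ⁅x * x', y⁆ = ⁅x, y⁆ * ⁅x', y⁆ := by
    intro x x' y
    calc ⁅x * x', y⁆ = (x * ⁅x', y⁆) * y * x⁻¹ * y⁻¹ := by
          simp only [commutatorElement_def]; group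
      _ = ⁅x', y⁆ * ⁅x, y⁆ := by
          rw [← (hcm (hcZ x' y) x).eq]; simp only [commutatorElement_def]; group
      _ = _ := (hcm (hcZ x' y) _).eq
  have hadd' : ∀ x y y' : P, ⁅x, y * y'⁆ = ⁅x, y⁆ * ⁅x, y'⁆ := by
    intro x y y'
    rw [← commutatorElement_inv (y * y') x, hadd, mul_inv_rev, commutatorElement_inv,
      commutatorElement_inv, (hcm (hcZ x y') _).eq]
  let B : Additive E →+ Additive E →+ Additive E :=
    AddMonoidHom.mk' (fun u => AddMonoidHom.mk' (fun v => Additive.ofMul (B₀ u.toMul v.toMul))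
      (fun v v' => by
        obtain ⟨x, hx⟩ : ∃ x, ψ x = u.toMul := ⟨_, hs _⟩
        obtain ⟨y, hy⟩ : ∃ y, ψ y = v.toMul := ⟨_, hs _⟩
        obtain ⟨y', hy'⟩ : ∃ y', ψ y' = v'.toMul := ⟨_, hs _⟩
        rw [toMul_add, ← hx, ← hy, ← hy', ← map_mul, hB₀, hB₀, hB₀, ← ofMul_mul]
        exact congrArg Additive.ofMul (Subtype.ext (hadd' x y y'))))
      (fun u u' => AddMonoidHom.ext fun v => by
        obtain ⟨x, hx⟩ : ∃ x, ψ x = u.toMul := ⟨_, hs _⟩
        obtain ⟨x', hx'⟩ : ∃ x', ψ x' = u'.toMul := ⟨_, hs _⟩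
        obtain ⟨y, hy⟩ : ∃ y, ψ y = v.toMul := ⟨_, hs _⟩
        simp only [AddMonoidHom.mk'_apply, AddMonoidHom.add_apply]
        rw [toMul_add, ← hx, ← hx', ← hy, ← map_mul, hB₀, hB₀, hB₀, ← ofMul_mul]
        exact congrArg Additive.ofMul (Subtype.ext (hadd x x' y)))
  have hzero := alternating_eq_zero'' (V := Additive E) (fun u => Subtype.ext u.toMul.2) ρ
    (fun u v hu hv => by
      obtain ⟨k, hk⟩ := htr (u.toMul : P) v.toMul (fun h => hu (congrArg Additive.ofMul (Subtype.ext h)))
        u.toMul.2 (fun h => hv (congrArg Additive.ofMul (Subtype.ext h))) v.toMul.2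
      exact ⟨k, Additive.toMul.injective (Subtype.ext hk)⟩)
    B (fun u => Additive.toMul.injective (Subtype.ext (commutatorElement_self _)))
    (fun k u v => by
      obtain ⟨x, rfl⟩ : ∃ x, Additive.ofMul (ψ x) = u := ⟨s u.toMul, congrArg Additive.ofMul (hs _)⟩
      obtain ⟨y, rfl⟩ : ∃ y, Additive.ofMul (ψ y) = v := ⟨s v.toMul, congrArg Additive.ofMul (hs _)⟩
      show Additive.ofMul (B₀ (ρ k (Additive.ofMul (ψ x))).toMul (ρ k (Additive.ofMul (ψ y))).toMul) =
        ρ k (Additive.ofMul (B₀ (ψ x) (ψ y)))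
      rw [← hψeq, ← hψeq, hB₀, hB₀]
      exact Additive.toMul.injective (Subtype.ext (map_commutatorElement (act k) x y).symm))
  apply hab
  rw [← commutatorElement_eq_one_iff_mul_comm]
  have h := congrArg Additive.toMul (hzero (Additive.ofMul (ψ a)) (Additive.ofMul (ψ b)))
  have h' : B₀ (ψ a) (ψ b) = 1 := h
  rw [hB₀] at h'
  exact congrArg Subtype.val h'

end Structure

universe u

/-- Higman: a central element of order four forces commutativity. -/
theorem mul_comm_of_center_exponent (n : ℕ) : ∀ {P : Type u} [Group P] [Finite P] {K : Type*} [Group K]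
    [Finite K] [Group.IsSolvable K] (act : K →* MulAut P),
    (∀ x y : P, x ≠ 1 → x * x = 1 → y ≠ 1 → y * y = 1 → ∃ k, act k x = y) →
    IsPGroup 2 P → Nat.card P = n → (∃ z ∈ Subgroup.center P, z * z ≠ 1) →
    ∀ x y : P, x * y = y * x := by
  induction n using Nat.strongRecOn with | ind n ih => ?_
  intro P _ _ K _ _ _ act htr hP hn ⟨z, hz, hz2⟩
  by_contra hna
  push Not at hna
  obtain ⟨a, b, hab⟩ := hna
  haveI : Fact (Nat.Prime 2) := ⟨Nat.prime_two⟩
  have hcm : ∀ {c : P}, c ∈ Subgroup.center P → ∀ g : P, Commute c g := fun hc g =>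
    (Subgroup.mem_center_iff.1 hc g).symm
  have hic := fun {x : P} (hx : x * x = 1) => involution_mem_center act htr hP hx
  have hroot := fun {u : P} (hu : u * u = 1) => exists_central_sqrt act htr hP hz hz2 hu
  -- the subgroup of involutions
  let E : Subgroup P :=
    { carrier := {x | x * x = 1}
      one_mem' := mul_one 1
      mul_mem' := fun {x y} hx hy => by
        show x * y * (x * y) = 1
        rw [(hcm (hic hx) y).symm.mul_mul_mul_comm x y, hx, hy, one_mul]
      inv_mem' := fun {x} hx => by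
        show x⁻¹ * x⁻¹ = 1
        rw [← mul_inv_rev, hx, inv_one] }
  haveI hEn : E.Normal := ⟨fun x hx g => by rwa [← (hcm (hic hx) g).eq, mul_inv_cancel_right]⟩
  have hroot' : ∀ x : P, x * x ∈ E → x ∈ Subgroup.center P := by
    intro x hx
    obtain ⟨w, hw, hww⟩ := hroot (show x * x * (x * x) = 1 from hx)
    have h1 : x * w⁻¹ * (x * w⁻¹) = 1 := by
      rw [(hcm (inv_mem hw) x).symm.symm.mul_mul_mul_comm x w⁻¹, ← mul_inv_rev, hww, mul_inv_cancel]
    have := mul_mem (hic h1) hw
    rwa [inv_mul_cancel_right] at this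
  have hEinv : ∀ k, E.map ((act k : MulAut P) : P →* P) = E := fun k => by
    refine Subgroup.eq_of_le_of_card_ge ?_ (Subgroup.card_map_of_injective (act k).injective).ge
    rintro _ ⟨x, hx, rfl⟩
    show act k x * act k x = 1
    rw [← map_mul, show x * x = 1 from hx, map_one]
  let act' : K →* MulAut (P ⧸ E) :=
    { toFun := fun k => QuotientGroup.congr E E (act k) (hEinv k)
      map_one' := MulEquiv.ext fun q => by
        induction q using QuotientGroup.induction_on with
        | H x => simp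
      map_mul' := fun k l => MulEquiv.ext fun q => by
        induction q using QuotientGroup.induction_on with
        | H x => simp }
  -- an element of `Z₂` of order two modulo the centre
  obtain ⟨x, hxZ, hxsq, hxc⟩ : ∃ x : P, x ∉ Subgroup.center P ∧ x * x ∈ Subgroup.center P ∧
      ∀ g, ⁅x, g⁆ ∈ Subgroup.center P := by
    haveI : Nontrivial (P ⧸ Subgroup.center P) := ⟨⟨QuotientGroup.mk a, 1, fun h =>
      hab (hcm ((QuotientGroup.eq_one_iff a).1 h) b).eq⟩⟩
    have hPq := hP.to_quotient (Subgroup.center P)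
    haveI := hPq.center_nontrivial
    obtain ⟨⟨w, hw⟩, hw2⟩ := exists_prime_orderOf_dvd_card' 2
      (G := Subgroup.center (P ⧸ Subgroup.center P))
      ((hPq.to_subgroup _).card_eq_or_dvd.resolve_left fun h =>
        (Finite.one_lt_card_iff_nontrivial.2 ‹_›).ne' h)
    rw [Subgroup.orderOf_mk] at hw2
    obtain ⟨x, rfl⟩ := QuotientGroup.mk'_surjective _ w
    refine ⟨x, fun h => ?_, ?_, fun g => ?_⟩
    · rw [show QuotientGroup.mk' _ x = 1 from (QuotientGroup.eq_one_iff x).2 h, orderOf_one] at hw2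
      omega
    · rw [← QuotientGroup.eq_one_iff]
      show QuotientGroup.mk' (Subgroup.center P) (x * x) = 1
      rw [map_mul, ← pow_two, ← hw2, pow_orderOf_eq_one]
    · rw [← QuotientGroup.eq_one_iff]
      show QuotientGroup.mk' (Subgroup.center P) ⁅x, g⁆ = 1
      rw [map_commutatorElement, commutatorElement_eq_one_iff_mul_comm]
      exact (Subgroup.mem_center_iff.1 hw _).symm
  have hxE : ∀ g : P, ⁅x, g⁆ * ⁅x, g⁆ = 1 := by
    intro g
    calc ⁅x, g⁆ * ⁅x, g⁆ = (x * ⁅x, g⁆) * g * x⁻¹ * g⁻¹ := by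
          rw [← (hcm (hxc g) x).eq]; simp only [commutatorElement_def]; group
      _ = ⁅x * x, g⁆ := by simp only [commutatorElement_def]; group
      _ = 1 := commutatorElement_eq_one_iff_mul_comm.2 (hcm hxsq g).eq
  -- `P ⧸ E` is commutative by induction
  have hlt : Nat.card (P ⧸ E) < n := by
    rw [← hn, Subgroup.card_eq_card_quotient_mul_card_subgroup E]
    obtain ⟨j, hj⟩ := IsPGroup.iff_orderOf.1 hP z
    haveI : Nontrivial E := by
      haveI : Nontrivial P := ⟨⟨a * b, b * a, hab⟩⟩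
      obtain ⟨u, hu⟩ := exists_prime_orderOf_dvd_card' 2 (G := P)
        (hP.card_eq_or_dvd.resolve_left fun h => (Finite.one_lt_card_iff_nontrivial.2 ‹_›).ne' h)
      exact ⟨⟨⟨u, show u * u = 1 by rw [← pow_two, ← hu, pow_orderOf_eq_one]⟩, 1, fun h => by
        rw [show u = 1 from congrArg Subtype.val h, orderOf_one] at hu; omega⟩⟩
    exact lt_mul_of_one_lt_right Nat.card_pos Finite.one_lt_card
  have hquot : ∀ p q : P ⧸ E, p * q = q * p := by
    refine ih _ hlt act' ?_ (hP.to_quotient E) rfl ⟨QuotientGroup.mk x, ?_, ?_⟩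
    · intro p q hp1 hp2 hq1 hq2
      induction p using QuotientGroup.induction_on with
      | H u =>
        induction q using QuotientGroup.induction_on with
        | H v =>
          have hu : u * u ∈ E := by rwa [← QuotientGroup.mk_mul, QuotientGroup.eq_one_iff] at hp2
          have hv : v * v ∈ E := by rwa [← QuotientGroup.mk_mul, QuotientGroup.eq_one_iff] at hq2
          obtain ⟨k, hk⟩ := htr (u * u) (v * v)
            (fun h => hp1 ((QuotientGroup.eq_one_iff u).2 h)) hu
            (fun h => hq1 ((QuotientGroup.eq_one_iff v).2 h)) hv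
          refine ⟨k, ?_⟩
          show QuotientGroup.mk (act k u) = QuotientGroup.mk v
          rw [QuotientGroup.eq]
          show (act k u)⁻¹ * v * ((act k u)⁻¹ * v) = 1
          rw [(hcm (hroot' v hv) (act k u)⁻¹).mul_mul_mul_comm (act k u)⁻¹ v, ← mul_inv_rev,
            ← map_mul, hk, inv_mul_cancel]
    · rw [Subgroup.mem_center_iff]
      intro q
      induction q using QuotientGroup.induction_on with
      | H g =>
        have h1 : (QuotientGroup.mk ⁅x, g⁆ : P ⧸ E) = 1 := (QuotientGroup.eq_one_iff _).2 (hxE g)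
        have h2 : (QuotientGroup.mk' E) ⁅x, g⁆ = 1 := h1
        rw [map_commutatorElement, commutatorElement_eq_one_iff_mul_comm] at h2
        exact h2.symm
    · rw [← QuotientGroup.mk_mul, Ne, QuotientGroup.eq_one_iff]
      exact fun h => hxZ (hroot' x h)
  have hcomm : ∀ p q : P, ⁅p, q⁆ * ⁅p, q⁆ = 1 := by
    intro p q
    have h : QuotientGroup.mk' E ⁅p, q⁆ = 1 := by
      rw [map_commutatorElement, commutatorElement_eq_one_iff_mul_comm]
      exact hquot _ _
    exact (QuotientGroup.eq_one_iff (N := E) _).1 h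
  refine hab (mul_comm_class_two act htr hP hz hz2 hcomm (fun p => ?_) a b)
  rw [Subgroup.mem_center_iff]
  intro g
  have h1 : ⁅p * p, g⁆ = 1 := by
    calc ⁅p * p, g⁆ = (p * ⁅p, g⁆) * g * p⁻¹ * g⁻¹ := by simp only [commutatorElement_def]; group
      _ = ⁅p, g⁆ * ⁅p, g⁆ := by
          rw [← (hcm (hic (hcomm p g)) p).eq]; simp only [commutatorElement_def]; group
      _ = 1 := hcomm p g
  exact (commutatorElement_eq_one_iff_mul_comm.1 h1).symm

end CfsgLib.SolvableTransitive
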