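import Cfsg.Agent.SolvableTransitive.Exponents
import Cfsg.Agent.FieldMaps.CharTwo

/-!
# Scalars generating a subgroup of small index of the multiplicative group

`Good b`: the identities between products of conjugates of `b` needed for Suzuki 2-groups.
-/

set_option autoImplicit false
set_option linter.unusedSectionVars false
set_option linter.style.haveILetI false

namespace CfsgLib.SolvableTransitive

universe v

variable {F : Type v} [Field F] [Fintype F] [CharP F 2]

/-- `b / σ b` has no smaller order than `b`. -/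
def Gen (b : F) (σ : F ≃+* F) : Prop := ∀ j : ℕ, (b / σ b) ^ j = 1 → b ^ j = 1

/-- The properties of a generator of a subgroup of small index. -/
structure Good (b : F) : Prop where
  ne : b ≠ 0
  two : ∀ σ τ : F ≃+* F, σ b = τ b → σ = τ
  three : ∀ σ τ π : F ≃+* F, σ b * τ b = π b → σ = τ ∧ ∀ x, π x = σ x * σ x
  four : ∀ π π' σ σ' : F ≃+* F, σ ≠ RingEquiv.refl F → σ' ≠ RingEquiv.refl F → Gen b σ → Gen b σ' →
    π (b / σ b) = π' (b / σ' b) → π = π' ∧ σ = σ'

theorem exists_frobenius {n : ℕ} (hn : Nat.card F = 2 ^ n) (σ : F ≃+* F) :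
    ∃ i < n, ∀ x : F, σ x = x ^ 2 ^ i := by
  letI : Algebra (ZMod 2) F := ZMod.algebra F 2
  have hfin : Module.finrank (ZMod 2) F = n := by
    refine Nat.pow_right_injective le_rfl ?_
    simp only
    rw [← hn, Module.natCard_eq_pow_finrank (K := ZMod 2), Nat.card_zmod]
  let e : F ≃ₐ[ZMod 2] F := AlgEquiv.ofRingEquiv (f := σ) fun a => RingHom.congr_fun
    (Subsingleton.elim ((σ : F →+* F).comp (algebraMap (ZMod 2) F)) (algebraMap (ZMod 2) F)) a
  obtain ⟨i, hi⟩ := (FiniteField.bijective_frobeniusAlgEquivOfAlgebraic_pow (ZMod 2) F).2 e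
  refine ⟨i, hfin ▸ i.2, fun x => ?_⟩
  have h1 : (FiniteField.frobeniusAlgEquivOfAlgebraic (ZMod 2) F ^ (i : ℕ)) x = e x :=
    AlgEquiv.congr_fun hi x
  rw [AlgEquiv.coe_pow, FiniteField.coe_frobeniusAlgEquivOfAlgebraic_iterate, ZMod.card] at h1
  exact h1.symm

theorem pow_two_pow_n {n : ℕ} (hn : Nat.card F = 2 ^ n) (x : F) : x ^ 2 ^ n = x := by
  rw [← hn, Nat.card_eq_fintype_card, FiniteField.pow_card]

theorem good_of_index {n d : ℕ} {b : F} (hn : Nat.card F = 2 ^ n) (hn2 : 2 ≤ n) (hd : d ∣ n)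
    (hb : orderOf b * d + 1 = 2 ^ n) : Good b := by
  have hc : Cofactor n d (orderOf b) := ⟨hn2, hd, hb⟩
  have hb0 : b ≠ 0 := by
    intro h
    have h0 : orderOf b = 0 := by
      rw [h, orderOf_eq_zero_iff']
      intro k hk hk'
      rw [zero_pow (by omega)] at hk'
      exact zero_ne_one hk'
    rw [h0, zero_mul, zero_add] at hb
    have := Nat.one_lt_two_pow (show n ≠ 0 by omega)
    omega
  have hfin : IsOfFinOrder b := isOfFinOrder_iff_pow_eq_one.2 ⟨Fintype.card F - 1,
    by have := Fintype.one_lt_card (α := F); omega, FiniteField.pow_card_sub_one_eq_one b hb0⟩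
  have hmod : ∀ {x y : ℕ}, b ^ x = b ^ y → x ≡ y [MOD orderOf b] :=
    fun h => (IsOfFinOrder.pow_eq_pow_iff_modEq hfin).1 h
  have hdec := fun σ => exists_frobenius hn σ
  have htwo : ∀ σ τ : F ≃+* F, σ b = τ b → σ = τ := by
    intro σ τ h
    obtain ⟨i, hi, hσ⟩ := hdec σ
    obtain ⟨k, hk, hτ⟩ := hdec τ
    rw [hσ, hτ] at h
    have key : ∀ {i k : ℕ}, i < n → k < n → b ^ 2 ^ i = b ^ 2 ^ k → i = k := by
      intro i k hi hk h
      -- multiply by `2 ^ (n - k)`
      have h1 : b ^ 2 ^ (i + (n - k)) = b := by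
        rw [pow_add, pow_mul, h, ← pow_mul, ← pow_add, Nat.add_sub_cancel' hk.le, pow_two_pow_n hn]
      have h1' := hmod (h1.trans (pow_one b).symm)
      have h2 : 1 + 2 ^ 0 ≡ 2 ^ (((i + (n - k)) % n + 1) % n) [MOD orderOf b] := by
        refine Nat.ModEq.trans ?_ (hc.pow_modEq _)
        rw [pow_succ, show 1 + 2 ^ 0 = 1 * 2 from rfl]
        exact (h1'.symm.trans (hc.pow_modEq _)).mul_right 2
      obtain ⟨-, e⟩ := hc.three_term (Nat.mod_lt _ (by omega)) (by omega) h2
      rw [rot_eq hi hk.le] at e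
      split_ifs at e with hle
      · rcases Nat.lt_or_ge (i - k + 1) n with h' | h'
        · rw [Nat.mod_eq_of_lt h'] at e; omega
        · rw [show i - k + 1 = n by omega, Nat.mod_self] at e; omega
      · rcases Nat.lt_or_ge (i + (n - k) + 1) n with h' | h'
        · rw [Nat.mod_eq_of_lt h'] at e; omega
        · rw [show i + (n - k) + 1 = n by omega, Nat.mod_self] at e; omega
    obtain rfl := key hi hk h
    exact RingEquiv.ext fun x => by rw [hσ, hτ]
  refine ⟨hb0, htwo, fun σ τ π h => ?_, fun π π' σ σ' hσ1 hσ1' hg hg' h => ?_⟩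
  · obtain ⟨k, hk, hρ⟩ := hdec (τ.trans σ.symm)
    obtain ⟨i, hi, hπ⟩ := hdec (π.trans σ.symm)
    have h1 : b * (τ.trans σ.symm) b = (π.trans σ.symm) b := by
      apply σ.injective
      simp only [map_mul, RingEquiv.trans_apply, RingEquiv.apply_symm_apply]
      exact h
    rw [hρ, hπ] at h1
    obtain ⟨rfl, rfl⟩ := hc.three_term hi hk (hmod (by rw [pow_add, pow_one]; exact h1))
    constructor
    · refine RingEquiv.ext fun x => σ.symm.injective ?_
      have := hρ x
      rw [RingEquiv.trans_apply, pow_zero, pow_one] at this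
      rw [this, RingEquiv.symm_apply_apply]
    · intro x
      have := congrArg σ (hπ x)
      rw [RingEquiv.trans_apply, RingEquiv.apply_symm_apply, pow_one, map_pow, sq] at this
      exact this
  · obtain ⟨i, hi, hρ⟩ := hdec (π.trans π'.symm)
    obtain ⟨t, ht, hσ⟩ := hdec σ
    obtain ⟨u, hu, hσ'⟩ := hdec σ'
    have h1 : (π.trans π'.symm) (b / σ b) = b / σ' b := by
      rw [RingEquiv.trans_apply, h, RingEquiv.symm_apply_apply]
    rw [hρ, hσ, hσ', div_pow, div_eq_div_iff (pow_ne_zero _ (pow_ne_zero _ hb0))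
      (pow_ne_zero _ hb0)] at h1
    have h2 : b ^ (2 ^ i + 2 ^ u) = b ^ (2 ^ (i + t) + 1) := by
      rw [pow_add, pow_add, h1, pow_one, ← pow_mul, ← pow_add, add_comm t i, mul_comm]
    have ht0 : t ≠ 0 := by
      rintro rfl
      exact hσ1 (RingEquiv.ext fun x => by rw [hσ, pow_zero, pow_one]; rfl)
    have hu0 : u ≠ 0 := by
      rintro rfl
      exact hσ1' (RingEquiv.ext fun x => by rw [hσ', pow_zero, pow_one]; rfl)
    have hgcd : ∀ (σ : F ≃+* F) (t : ℕ), (∀ x, σ x = x ^ 2 ^ t) → Gen b σ →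
        Nat.gcd (2 ^ t - 1) (orderOf b) = 1 := by
      intro σ t hσ hg
      obtain ⟨q, hq⟩ := Nat.gcd_dvd_left (2 ^ t - 1) (orderOf b)
      obtain ⟨q', hq'⟩ := Nat.gcd_dvd_right (2 ^ t - 1) (orderOf b)
      set g := Nat.gcd (2 ^ t - 1) (orderOf b)
      have hpos := hfin.orderOf_pos
      have h3 : b ^ ((2 ^ t - 1) * q') = 1 := by
        rw [hq, mul_right_comm, ← hq', pow_mul, pow_orderOf_eq_one, one_pow]
      have h4 : b ^ q' = 1 := by
        refine hg q' ?_
        rw [hσ, div_pow, div_eq_one_iff_eq (pow_ne_zero _ (pow_ne_zero _ hb0)), ← pow_mul]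
        conv_rhs => rw [show 2 ^ t * q' = (2 ^ t - 1) * q' + q' by
          rw [← add_one_mul, Nat.sub_add_cancel Nat.one_le_two_pow], pow_add, h3, one_mul]
      have h5 : orderOf b ∣ q' := orderOf_dvd_of_pow_eq_one h4
      rw [hq'] at h5 hpos
      have hq'0 : 0 < q' := Nat.pos_of_mul_pos_left hpos
      exact Nat.le_antisymm
        (Nat.le_of_mul_le_mul_right (by simpa using Nat.le_of_dvd hq'0 h5) hq'0)
        (Nat.pos_of_mul_pos_right hpos)
    obtain ⟨rfl, rfl⟩ := hc.four_term hi ht hu ht0 hu0 (hgcd σ t hσ hg) (hgcd σ' u hσ' hg') (hmod h2)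
    refine ⟨RingEquiv.ext fun x => π'.symm.injective ?_, RingEquiv.ext fun x => by rw [hσ, hσ']⟩
    have := hρ x
    rw [RingEquiv.trans_apply, pow_zero, pow_one] at this
    rw [this, RingEquiv.symm_apply_apply]

theorem Good.map {b : F} (hb : Good b) (φ : F ≃+* F) : Good (φ b) where
  ne := by simpa using hb.ne
  two := fun σ τ h => by
    have h1 := hb.two (φ.trans σ) (φ.trans τ) h
    exact RingEquiv.ext fun x => by
      obtain ⟨y, rfl⟩ := φ.surjective x
      exact RingEquiv.congr_fun h1 y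
  three := fun σ τ π h => by
    obtain ⟨h1, h2⟩ := hb.three (φ.trans σ) (φ.trans τ) (φ.trans π) h
    refine ⟨RingEquiv.ext fun x => ?_, fun x => ?_⟩
    · obtain ⟨y, rfl⟩ := φ.surjective x
      exact RingEquiv.congr_fun h1 y
    · obtain ⟨y, rfl⟩ := φ.surjective x
      exact h2 y
  four := fun π π' σ σ' h1 h2 h3 h4 h => by
    have e : ∀ (τ : F ≃+* F), φ (b / (φ.trans (τ.trans φ.symm)) b) = φ b / τ (φ b) := fun τ => by
      simp [map_div₀]
    have hne : ∀ τ : F ≃+* F, τ ≠ RingEquiv.refl F →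
        φ.trans (τ.trans φ.symm) ≠ RingEquiv.refl F := by
      intro τ hτ h
      apply hτ
      refine RingEquiv.ext fun x => ?_
      obtain ⟨y, rfl⟩ := φ.surjective x
      have := congrArg φ (RingEquiv.congr_fun h y)
      simpa using this
    have hgen : ∀ τ : F ≃+* F, Gen (φ b) τ → Gen b (φ.trans (τ.trans φ.symm)) := by
      intro τ hτ j hj
      apply φ.injective
      rw [map_one, map_pow]
      refine hτ j ?_
      rw [← e, ← map_pow, hj, map_one]
    obtain ⟨r1, r2⟩ := hb.four (φ.trans π) (φ.trans π') _ _ (hne σ h1) (hne σ' h2) (hgen σ h3)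
      (hgen σ' h4) (by show π (φ _) = π' (φ _); rw [e, e]; exact h)
    refine ⟨RingEquiv.ext fun x => ?_, RingEquiv.ext fun x => ?_⟩ <;>
      obtain ⟨y, rfl⟩ := φ.surjective x
    · exact RingEquiv.congr_fun r1 y
    · exact φ.symm.injective (by simpa using RingEquiv.congr_fun r2 y)

/-- `b` is a power of `b / σ b`. -/
theorem Gen.exists_pow {b : F} (hb : b ≠ 0) {σ : F ≃+* F} (hg : Gen b σ) :
    ∃ u : ℕ, (b / σ b) ^ u = b := by
  have hc : b / σ b ≠ 0 := div_ne_zero hb (by simpa using hb)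
  have hfin : IsOfFinOrder (b / σ b) := isOfFinOrder_iff_pow_eq_one.2 ⟨Fintype.card F - 1,
    by have := Fintype.one_lt_card (α := F); omega, FiniteField.pow_card_sub_one_eq_one _ hc⟩
  haveI : NeZero (orderOf (b / σ b)) := ⟨hfin.orderOf_pos.ne'⟩
  obtain ⟨u, -, hu⟩ := (IsPrimitiveRoot.orderOf (b / σ b)).eq_pow_of_pow_eq_one
    (hg _ (pow_orderOf_eq_one _))
  exact ⟨u, hu⟩

/-- Geometric sequences with different ratios are independent. -/
theorem coeff_eq_zero {ι : Type*} [DecidableEq F] (s : Finset ι) (β c : ι → F)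
    (h : ∀ j : ℕ, ∑ i ∈ s, c i * β i ^ j = 0) (f : F) : ∑ i ∈ s with β i = f, c i = 0 := by
  classical
  let χ : F → (Multiplicative ℕ →* F) := fun x => powersHom F x
  have hχ : Function.Injective χ := (powersHom F).injective
  have hli := linearIndependent_iff'.1 ((linearIndependent_monoidHom (Multiplicative ℕ) F).comp χ hχ)
    (insert f (s.image β)) (fun g => ∑ i ∈ s with β i = g, c i) ?_ f (Finset.mem_insert_self _ _)
  · exact hli
  · funext x
    simp only [Function.comp_apply, Finset.sum_apply, Pi.smul_apply, smul_eq_mul, Pi.zero_apply,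
      χ, powersHom_apply]
    calc ∑ g ∈ insert f (s.image β), (∑ i ∈ s with β i = g, c i) * g ^ x.toAdd
        = ∑ g ∈ insert f (s.image β), ∑ i ∈ s with β i = g, c i * β i ^ x.toAdd := by
          refine Finset.sum_congr rfl fun g _ => ?_
          rw [Finset.sum_mul]
          exact Finset.sum_congr rfl fun i hi => by rw [(Finset.mem_filter.1 hi).2]
      _ = ∑ i ∈ s, c i * β i ^ x.toAdd := Finset.sum_fiberwise_of_maps_to
          (fun i hi => Finset.mem_insert_of_mem (Finset.mem_image_of_mem β hi)) _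
      _ = 0 := h _

/-- An alternating biadditive map equivariant for a good scalar vanishes. -/
theorem alternating_eq_zero {b : F} (hb : Good b) (B : F →+ F →+ F) (halt : ∀ t, B t t = 0)
    (heq : ∀ t u, B (b * t) (b * u) = b * B t u) : ∀ t u, B t u = 0 := by
  classical
  obtain ⟨s, c, hsc⟩ := FieldMaps.exists_coeff_biadditive B
  have hiter : ∀ (j : ℕ) t u, B (b ^ j * t) (b ^ j * u) = b ^ j * B t u := by
    intro j
    induction j with
    | zero => simp
    | succ j ih => intro t u; rw [pow_succ', mul_assoc, mul_assoc, heq, ih, mul_assoc]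
  set s₀ := s.filter fun p => p.1 b * p.2 b = b with hs₀
  have hred : ∀ t u, B t u = ∑ p ∈ s₀, c p * (p.1 t * p.2 u) := by
    intro t u
    rw [hsc, ← Finset.sum_filter_add_sum_filter_not s (fun p => p.1 b * p.2 b = b)]
    refine (add_eq_left).2 ?_
    set s₁ := s.filter fun p => ¬ p.1 b * p.2 b = b
    have hj : ∀ j : ℕ, ∑ p ∈ s₁, (c p * (p.1 t * p.2 u)) * ((p.1 b * p.2 b) ^ j - b ^ j) = 0 := by
      intro j
      rw [Finset.sum_subset (Finset.filter_subset _ s) fun p hp hp' => by
        simp only [s₁, Finset.mem_filter, hp, true_and, not_not] at hp'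
        rw [hp', sub_self, mul_zero]]
      simp only [mul_sub, Finset.sum_sub_distrib, ← Finset.sum_mul]
      rw [← hsc, sub_eq_zero, mul_comm (B t u), ← hiter, hsc]
      exact Finset.sum_congr rfl fun p _ => by rw [map_mul, map_mul, map_pow, map_pow, mul_pow]; ring
    -- regroup by ratios
    have hgrp := fun f => coeff_eq_zero (ι := ((F ≃+* F) × (F ≃+* F)) ⊕ ((F ≃+* F) × (F ≃+* F)))
      (s₁.disjSum s₁) (Sum.elim (fun p => p.1 b * p.2 b) fun _ => b)
      (Sum.elim (fun p => c p * (p.1 t * p.2 u)) fun p => -(c p * (p.1 t * p.2 u))) (fun j => by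
        rw [Finset.sum_disjSum]
        simp only [Sum.elim_inl, Sum.elim_inr, neg_mul]
        rw [Finset.sum_neg_distrib, ← sub_eq_add_neg, ← Finset.sum_sub_distrib, ← hj j]
        exact Finset.sum_congr rfl fun p _ => (mul_sub _ _ _).symm) f
    have h0 := hgrp b
    rw [Finset.sum_filter, Finset.sum_disjSum] at h0
    simp only [Sum.elim_inl, Sum.elim_inr, if_true] at h0
    refine neg_eq_zero.1 ?_
    rw [← Finset.sum_neg_distrib]
    refine Eq.trans (Eq.symm ?_) h0
    rw [add_eq_right]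
    exact Finset.sum_eq_zero fun p hp => if_neg (Finset.mem_filter.1 hp).2
  -- only one pair is left
  have huniq : ∀ p ∈ s₀, ∀ q ∈ s₀, p = q ∧ p.1 = p.2 := by
    intro p hp q hq
    obtain ⟨e1, e1'⟩ := hb.three p.1 p.2 (RingEquiv.refl F) (Finset.mem_filter.1 hp).2
    obtain ⟨e2, e2'⟩ := hb.three q.1 q.2 (RingEquiv.refl F) (Finset.mem_filter.1 hq).2
    have e : p.1 = q.1 := RingEquiv.ext fun x => frobenius_inj F 2 (by
      simp only [frobenius_def, sq]
      exact (e1' x).symm.trans (e2' x))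
    exact ⟨Prod.ext e (e1.symm.trans (e.trans e2)), e1⟩
  intro t u
  rw [hred]
  refine Finset.sum_eq_zero fun p hp => ?_
  have h1 : B 1 1 = c p := by
    rw [hred, Finset.sum_eq_single p (fun q hq hne => absurd (huniq q hq p hp).1 hne)
      (fun h => absurd hp h), map_one, map_one, mul_one, mul_one]
  rw [← h1, halt, zero_mul]

end CfsgLib.SolvableTransitive
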