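import Cfsg.Agent.SolvableTransitive.Scalars
import Cfsg.Agent.RegularLinear.Transitive

/-!
# A scalar from a solvable transitive group on an elementary abelian 2-group
-/

set_option autoImplicit false
set_option linter.unusedSectionVars false
set_option linter.style.haveILetI false

namespace CfsgLib.SolvableTransitive

open CfsgLib.RegLinear

universe u

variable {V : Type u} [AddCommGroup V] [Finite V]

theorem exists_scalar_aux [Module (ZMod 2) V] [Nontrivial V] (h4 : 4 ≤ Nat.card V)
    {K : Type*} [Group K] [Finite K] [Group.IsSolvable K] (ρ : K →* AddMonoid.End V)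
    (htr : ∀ v w : V, v ≠ 0 → w ≠ 0 → ∃ k, ρ k v = w) :
    ∃ (F : Type) (_ : Field F) (_ : Fintype F) (_ : CharP F 2) (Φ : F ≃+ V) (k : K) (b : F),
      Good b ∧ b ≠ 1 ∧ ∀ x, ρ k (Φ x) = Φ (b * x) := by
  classical
  let ρ₁ : K →* (V ≃ₗ[ZMod 2] V) :=
    { toFun := fun k =>
        LinearEquiv.ofLinear ((ρ k).toZModLinearMap 2) ((ρ k⁻¹).toZModLinearMap 2)
          (LinearMap.ext fun v => by
            show (ρ k * ρ k⁻¹) v = v
            rw [← map_mul, mul_inv_cancel, map_one]; rfl)
          (LinearMap.ext fun v => by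
            show (ρ k⁻¹ * ρ k) v = v
            rw [← map_mul, inv_mul_cancel, map_one]; rfl)
      map_one' := LinearEquiv.ext fun v => by show ρ 1 v = v; rw [map_one]; rfl
      map_mul' := fun k l => LinearEquiv.ext fun v => by show ρ (k * l) v = _; rw [map_mul]; rfl }
  have hρ₁ : ∀ k v, ρ₁ k v = ρ k v := fun k v => rfl
  let G := ρ₁.range
  have hsolG : Group.IsSolvable G :=
    Group.isSolvable_of_surjective (f := ρ₁.rangeRestrict) ρ₁.rangeRestrict_surjective
  haveI : Finite G := Finite.of_surjective _ ρ₁.rangeRestrict_surjective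
  have htr' : ∀ v w : V, v ≠ 0 → w ≠ 0 → ∃ g : G, G.subtype g v = w := fun v w hv hw => by
    obtain ⟨k, hk⟩ := htr v w hv hw
    exact ⟨ρ₁.rangeRestrict k, hk⟩
  rcases transitive_structure (q := 2) hsolG G.subtype G.subtype_injective htr' with h | h
  swap
  · exfalso
    have hV := Module.natCard_eq_pow_finrank (K := ZMod 2) (V := V)
    rw [Nat.card_zmod] at hV
    have hcase : ∀ m ∈ ({9, 25, 49, 121, 529, 81} : Set ℕ), m % 2 = 1 := by
      rintro m (rfl | rfl | rfl | rfl | rfl | rfl) <;> norm_num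
    have hodd := hcase _ h
    obtain ⟨j, hj⟩ : ∃ j, Module.finrank (ZMod 2) V = j + 1 :=
      ⟨Module.finrank (ZMod 2) V - 1, by have := Module.finrank_pos (R := ZMod 2) (M := V); omega⟩
    rw [hV, hj, pow_succ] at hodd
    omega
  obtain ⟨F, hF, hFin, e, hsem⟩ := h
  haveI hchar : CharP F 2 := by
    refine CharTwo.of_one_ne_zero_of_two_eq_zero one_ne_zero ?_
    rw [← one_add_one_eq_two]
    apply e.symm.injective
    rw [map_add, map_zero]
    exact ZModModule.add_self _
  obtain ⟨n, hn⟩ : ∃ n, Nat.card F = 2 ^ n := by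
    obtain ⟨m, -, hm⟩ := FiniteField.card F 2
    exact ⟨m, by rw [Nat.card_eq_fintype_card]; exact hm⟩
  have hVF : Nat.card V = 2 ^ n := by rw [← hn]; exact Nat.card_congr e.toEquiv
  have hn2 : 2 ≤ n := by
    by_contra hc
    rw [hVF] at h4
    have := Nat.pow_le_pow_right two_pos (show n ≤ 1 by omega)
    omega
  choose a σ haσ using hsem
  have ha0 : ∀ g, a g ≠ 0 := fun g h0 => by
    have h1 := haσ g (e.symm 1)
    rw [h0, zero_mul, map_eq_zero_iff e e.injective, LinearEquiv.map_eq_zero_iff,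
      map_eq_zero_iff e.symm e.symm.injective] at h1
    exact one_ne_zero h1
  have hmul : ∀ g h, a (g * h) = a g * σ g (a h) ∧ σ (g * h) = (σ h).trans (σ g) := by
    intro g h
    have key : ∀ x : F, a (g * h) * σ (g * h) x = a g * σ g (a h) * σ g (σ h x) := by
      intro x
      have h1 := haσ (g * h) (e.symm x)
      rw [e.apply_symm_apply] at h1
      rw [← h1, show G.subtype (g * h) (e.symm x) = G.subtype g (G.subtype h (e.symm x)) from rfl,
        haσ, haσ, e.apply_symm_apply, map_mul, mul_assoc]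
    have h1 : a (g * h) = a g * σ g (a h) := by simpa using key 1
    refine ⟨h1, RingEquiv.ext fun x => ?_⟩
    have := key x
    rw [h1] at this
    exact mul_left_cancel₀ (mul_ne_zero (ha0 g) (by simpa using ha0 h)) this
  haveI : Finite (F ≃+* F) := FieldMaps.finite_ringAut
  have hone : σ 1 = RingEquiv.refl F := by
    refine RingEquiv.ext fun x => (σ 1).injective ?_
    have := RingEquiv.congr_fun (hmul 1 1).2 x
    rw [mul_one, RingEquiv.trans_apply] at this
    exact this.symm
  let τ : G →* (F ≃+* F) :=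
    { toFun := σ
      map_one' := hone
      map_mul' := fun g h => RingEquiv.ext fun x => RingEquiv.congr_fun (hmul g h).2 x }
  have hτ : ∀ g : τ.ker, σ (g : G) = RingEquiv.refl F := fun g => g.2
  let χ : τ.ker →* Fˣ := MonoidHom.mk' (fun g => Units.mk0 (a g) (ha0 g)) fun g h => Units.ext (by
    show a ((g : G) * h) = a g * a h
    rw [(hmul _ _).1, hτ g, RingEquiv.refl_apply])
  have hχv : ∀ (g : τ.ker) (v : V), e ((g : G).1 v) = (χ g : F) * e v := fun g v => by
    show e (G.subtype (g : G) v) = a g * e v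
    rw [haσ, hτ g, RingEquiv.refl_apply]
  have hχ : Function.Injective χ := fun g h hgh => by
    refine Subtype.ext (Subtype.ext (LinearEquiv.ext fun v => e.injective ?_))
    rw [hχv, hχv, hgh]
  obtain ⟨⟨b, hb⟩, hgen⟩ := IsCyclic.exists_generator (α := χ.range)
  have hord : orderOf (b : F) = Nat.card τ.ker := by
    rw [orderOf_units, Nat.card_congr (MonoidHom.ofInjective hχ).toEquiv,
      ← orderOf_eq_card_of_forall_mem_zpowers hgen, Subgroup.orderOf_mk]
  obtain ⟨d, hd⟩ : Nat.card τ.ker ∣ 2 ^ n - 1 := by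
    have := Subgroup.card_dvd_of_injective χ hχ
    rwa [Nat.card_units, hn] at this
  have hdn : d ∣ n := by
    have h1 := card_sub_one_dvd G.subtype htr'
    rw [hVF, hd, ← Subgroup.card_mul_index τ.ker] at h1
    refine (Nat.dvd_of_mul_dvd_mul_left Nat.card_pos h1).trans ?_
    rw [Subgroup.index_ker, ← card_ringAut (K := F) (q := 2) hn]
    exact Subgroup.card_subgroup_dvd_card _
  have hgood : Good (b : F) := good_of_index hn hn2 hdn (by
    rw [hord, ← hd]; exact Nat.sub_add_cancel Nat.one_le_two_pow)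
  obtain ⟨g, rfl⟩ := hb
  obtain ⟨k, hk⟩ := (g : G).2
  refine ⟨F, hF, hFin, hchar, e.symm, k, (χ g : F), hgood, fun h1 => ?_, fun x => e.injective ?_⟩
  · rw [h1, orderOf_one] at hord
    rw [← hord, one_mul] at hd
    have h2 := Nat.le_of_dvd (by omega) hdn
    have h3 : ∀ j, 2 ≤ j → j + 1 < 2 ^ j := by
      intro j hj
      induction j, hj using Nat.le_induction with
      | base => norm_num
      | succ j _ ih => rw [pow_succ]; omega
    have := h3 n hn2
    omega
  · rw [e.apply_symm_apply, ← hρ₁, hk, hχv, e.apply_symm_apply]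

/-- A solvable group transitive on the non-zero vectors has an element acting as a good scalar. -/
theorem exists_scalar (h2 : ∀ v : V, v + v = 0) (h4 : 4 ≤ Nat.card V) {K : Type*} [Group K]
    [Finite K] [Group.IsSolvable K] (ρ : K →* AddMonoid.End V)
    (htr : ∀ v w : V, v ≠ 0 → w ≠ 0 → ∃ k, ρ k v = w) :
    ∃ (F : Type) (_ : Field F) (_ : Fintype F) (_ : CharP F 2) (Φ : F ≃+ V) (k : K) (b : F),
      Good b ∧ b ≠ 1 ∧ ∀ x, ρ k (Φ x) = Φ (b * x) := by
  letI : Module (ZMod 2) V := AddCommGroup.zmodModule fun v => by rw [two_nsmul]; exact h2 v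
  haveI : Nontrivial V := Finite.one_lt_card_iff_nontrivial.1 (by omega)
  exact exists_scalar_aux h4 ρ htr

/-- An alternating biadditive map equivariant for a solvable transitive group vanishes. -/
theorem alternating_eq_zero' (h2 : ∀ v : V, v + v = 0) (h4 : 4 ≤ Nat.card V) {K : Type*} [Group K]
    [Finite K] [Group.IsSolvable K] (ρ : K →* AddMonoid.End V)
    (htr : ∀ v w : V, v ≠ 0 → w ≠ 0 → ∃ k, ρ k v = w) (B : V →+ V →+ V) (halt : ∀ v, B v v = 0)
    (heq : ∀ k u v, B (ρ k u) (ρ k v) = ρ k (B u v)) : ∀ u v, B u v = 0 := by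
  obtain ⟨F, _, _, _, Φ, k, b, hb, -, hΦ⟩ := exists_scalar h2 h4 ρ htr
  let B' : F →+ F →+ F := AddMonoidHom.mk'
    (fun t => Φ.symm.toAddMonoidHom.comp ((B (Φ t)).comp Φ.toAddMonoidHom)) fun t t' => by
      ext u; simp
  have hB' : ∀ t u, B' t u = Φ.symm (B (Φ t) (Φ u)) := fun t u => rfl
  intro u v
  have := alternating_eq_zero hb B' (fun t => by rw [hB', halt, map_zero]) (fun t u => by
    rw [hB', hB', ← hΦ, ← hΦ, heq]
    apply Φ.injective
    rw [← hΦ, Φ.apply_symm_apply, Φ.apply_symm_apply]) (Φ.symm u) (Φ.symm v)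
  rw [hB', Φ.apply_symm_apply, Φ.apply_symm_apply, map_eq_zero_iff _ Φ.symm.injective] at this
  exact this

/-- The same without a bound on the order. -/
theorem alternating_eq_zero'' (h2 : ∀ v : V, v + v = 0) {K : Type*} [Group K]
    [Finite K] [Group.IsSolvable K] (ρ : K →* AddMonoid.End V)
    (htr : ∀ v w : V, v ≠ 0 → w ≠ 0 → ∃ k, ρ k v = w) (B : V →+ V →+ V) (halt : ∀ v, B v v = 0)
    (heq : ∀ k u v, B (ρ k u) (ρ k v) = ρ k (B u v)) : ∀ u v, B u v = 0 := by
  classical
  by_cases h4 : 4 ≤ Nat.card V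
  · exact alternating_eq_zero' h2 h4 ρ htr B halt heq
  intro u v
  rcases eq_or_ne u 0 with rfl | hu
  · simp
  rcases eq_or_ne v 0 with rfl | hv
  · simp
  rcases eq_or_ne u v with rfl | huv
  · exact halt u
  · exfalso
    apply h4
    have huv0 : u + v ≠ 0 := fun h => huv (by
      rw [add_eq_zero_iff_eq_neg] at h
      rw [h, neg_eq_of_add_eq_zero_left (h2 v)])
    have hinj : Function.Injective (![0, u, v, u + v] : Fin 4 → V) := by
      intro i j hij
      fin_cases i <;> fin_cases j <;> simp_all [eq_comm]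
    simpa using Nat.card_le_card_of_injective _ hinj

end CfsgLib.SolvableTransitive
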